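import Cfsg.Agent.OddOrder.BG16.FromSections
import Cfsg.Agent.OddOrder.BG15.ThmD

/-!
# The interface to sections 14-16 holds
-/

set_option autoImplicit false

universe u

namespace Cfsg.Agent.OddOrder.BG16

/-- The inputs of the translation into the language of types. -/
theorem sectionFacts {G : Type u} [Group G] [Finite G] (hG : Cfsg.IsMinSimpleOddOrder G) :
    SectionFacts G :=
  sectionFacts_of_witness hG fun M hM x hx hx1 hxM N hN hxN hkN =>
    BG15.frobenius_of_support (BG15.facts hG) hM hx hx1 hxM hN hxN hkN

end Cfsg.Agent.OddOrder.BG16
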