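import Cfsg.Agent.OddOrder.PF8.Transport
import Cfsg.Agent.OddOrder.PF9.TypeP

/-!
# Elementary lemmas for the translation: M_F of normal Hall subgroups, Sylow subgroups of nilpotent groups
-/

set_option autoImplicit false

namespace Cfsg.Agent.OddOrder.BG16

open Subgroup

variable {G : Type*} [Group G] [Finite G]

/-- A normal nilpotent Hall subgroup lies in `M_F`. -/
theorem le_fittingHallOf {M J : Subgroup G} (hJM : J ≤ M) (hn : M ≤ normalizer (J : Set G))
    (hnil : Group.IsNilpotent J) (hc : (Nat.card J).Coprime (J.relIndex M)) :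
    J ≤ Cfsg.fittingHallOf M := by
  rw [Cfsg.fittingHallOf, ← map_subgroupOf_eq_of_le hJM]
  refine map_mono (le_sSup ⟨(normal_subgroupOf_iff_le_normalizer hJM).2 hn,
    Group.nilpotent_of_mulEquiv (subgroupOfEquivOfLe hJM).symm, ?_⟩)
  rwa [Nat.card_congr (subgroupOfEquivOfLe hJM).toEquiv]

omit [Finite G] in
theorem fittingHall_eq_subgroupOf (M : Subgroup G) :
    Cfsg.fittingHall M = (Cfsg.fittingHallOf M).subgroupOf M := by
  rw [Cfsg.fittingHallOf, Subgroup.subgroupOf, comap_map_eq_self_of_injective M.subtype_injective]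

theorem fittingHallOf_coprime (M : Subgroup G) :
    (Nat.card (Cfsg.fittingHallOf M)).Coprime ((Cfsg.fittingHallOf M).relIndex M) := by
  rw [Cfsg.fittingHallOf, Cores.card_map_eq _ M.subtype_injective]
  convert (H41.fittingHall_spec M).2.2 using 1
  show ((Cfsg.fittingHall M).map M.subtype).relIndex M = _
  conv_lhs => rw [Subgroup.relIndex, Subgroup.subgroupOf,
    comap_map_eq_self_of_injective M.subtype_injective]

/-- `M_F` is inherited by a normal Hall subgroup containing it. -/
theorem fittingHallOf_eq_of_normal {M N : Subgroup G} (hNM : N ≤ M) (hn : M ≤ normalizer (N : Set G))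
    (hc : (Nat.card N).Coprime (N.relIndex M)) (hF : Cfsg.fittingHallOf M ≤ N) :
    Cfsg.fittingHallOf N = Cfsg.fittingHallOf M := by
  refine le_antisymm (le_fittingHallOf ((TypeP.core_le N).trans hNM) ?_ (TypeP.core_nilpotent N) ?_)
    (le_fittingHallOf hF (hNM.trans (TypeP.le_normalizer_core M)) (TypeP.core_nilpotent M) ?_)
  · intro m hm
    refine Coprime.mem_normalizer_of_map_conj ?_
    rw [← PF8.fittingHallOf_map, Coprime.map_conj_eq (hn hm)]
  · rw [← relIndex_mul_relIndex _ N M (TypeP.core_le N) hNM]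
    exact Nat.Coprime.mul_right (fittingHallOf_coprime N)
      (hc.coprime_dvd_left (card_dvd_of_le (TypeP.core_le N)))
  · refine (fittingHallOf_coprime M).coprime_dvd_right ?_
    rw [← relIndex_mul_relIndex _ N M hF hNM]
    exact dvd_mul_right _ _

/-- The normaliser of a nilpotent subgroup normalises each of its Sylow subgroups. -/
theorem normalizer_le_normalizer_sylow {D : Subgroup G} (hD : Group.IsNilpotent D) {p : ℕ}
    [Fact p.Prime] (P : Sylow p D) :
    normalizer (D : Set G) ≤
      normalizer (((P : Subgroup D).map D.subtype : Subgroup G) : Set G) := by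
  have hPn : (P : Subgroup D).Normal :=
    Sylow.normal_of_normalizerCondition Group.normalizerCondition_of_isNilpotent P
  have key : ∀ g ∈ normalizer (D : Set G), ∀ x ∈ (P : Subgroup D).map D.subtype,
      g * x * g⁻¹ ∈ (P : Subgroup D).map D.subtype := by
    rintro g hg _ ⟨x, hx, rfl⟩
    have hy : g * (x : G) * g⁻¹ ∈ D := Coprime.conj_mem hg x.2
    obtain ⟨k, hk⟩ := IsPGroup.iff_orderOf.1 P.isPGroup' ⟨x, hx⟩
    rw [Subgroup.orderOf_mk] at hk
    have ho : orderOf (⟨g * (x : G) * g⁻¹, hy⟩ : D) = p ^ k := by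
      rw [Subgroup.orderOf_mk, ← MulAut.conj_apply, MulEquiv.orderOf_eq, Subgroup.orderOf_coe, hk]
    have hp : IsPGroup p (zpowers (⟨g * (x : G) * g⁻¹, hy⟩ : D)) :=
      IsPGroup.of_card (n := k) (by rw [Nat.card_zpowers, ho])
    obtain ⟨Q, hQ⟩ := hp.exists_le_sylow
    have hQP : (Q : Subgroup D) = (P : Subgroup D) := by
      obtain ⟨d, rfl⟩ := MulAction.exists_smul_eq D P Q
      rw [Sylow.smul_eq_of_normal]
    exact ⟨_, hQP ▸ hQ (mem_zpowers _), rfl⟩
  intro g hg
  rw [mem_normalizer_iff]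
  refine fun x => ⟨fun hx => key g hg x hx, fun hx => ?_⟩
  have := key g⁻¹ (inv_mem hg) _ hx
  rwa [show g⁻¹ * (g * x * g⁻¹) * g⁻¹⁻¹ = x by group] at this

end Cfsg.Agent.OddOrder.BG16
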