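import Cfsg.Agent.OddOrder.PF8.Sets

/-!
# The five types exclude each other
-/

set_option autoImplicit false

namespace Cfsg.Agent.OddOrder.BG16

open Subgroup

variable {G : Type*} [Group G] [Finite G] {M : Subgroup G}

/-- A subgroup of Type I has no type-P data. -/
theorem typeI_not_typeP (hI : IsTypeI M) : ¬ Cfsg.IsOfTypeP M := by
  rintro ⟨W₁, U, W₂, hP⟩
  have hU : U = ⊥ := PF8.typeI_U_eq_bot hI hP
  obtain ⟨-, -, -, -, E, -, hEc, -, U₀, hU₀E, hexp, hfpf⟩ := hI.1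
  -- `M = H W₁`, so `E` is conjugate to the cyclic group `W₁`
  set E' := E.map M.subtype with hE'
  have hE'M : E' ≤ M := map_subtype_le _
  have hcard : Nat.card E' = Nat.card W₁ := by
    rw [hE', Cores.card_map_eq _ M.subtype_injective, ← hEc.symm.index_eq_card,
      TypeP.index_core hP, hU, card_bot, one_mul]
  have hsup : Cfsg.fittingHallOf M ⊔ W₁ = M := by
    have := TypeP.core_sup_compl hP
    rwa [hU, bot_sup_eq] at this
  have hcop : (Nat.card W₁).Coprime (Nat.card (Cfsg.fittingHallOf M)) :=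
    (TypeP.coprime_core_W₁ hP).symm
  obtain ⟨h, hh, hEh⟩ := Coprime.exists_conj_of_solvable_kernel _ (Cfsg.fittingHallOf M) W₁ E'
    le_rfl (TypeP.core_solvable M) ((TypeP.W₁_le hP).trans (TypeP.le_normalizer_core M))
    (hE'M.trans hsup.ge) hcard hcop
  have hEcyc : IsCyclic E := by
    have := hP.W₁_cyclic
    refine isCyclic_of_surjective _
      ((W₁.equivMapOfInjective (MulAut.conj h).toMonoidHom (MulAut.conj h).injective).trans
        ((MulEquiv.subgroupCongr hEh.symm).trans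
          (E.equivMapOfInjective M.subtype M.subtype_injective).symm)).surjective
  -- hence the fixed-point-free subgroup is all of `E`
  have hU₀ : U₀ = E := by
    refine Subgroup.eq_of_le_of_card_ge hU₀E ?_
    have e2 : Monoid.exponent E = Nat.card E := IsCyclic.exponent_eq_card
    rw [← e2, ← hexp]
    exact Nat.le_of_dvd Nat.card_pos Group.exponent_dvd_nat_card
  obtain ⟨⟨x, hx⟩, hx1⟩ := (nontrivial_iff_exists_ne (1 : W₁)).1
    ((nontrivial_iff_ne_bot _).2 hP.W₁_ne)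
  obtain ⟨⟨w, hw⟩, hw1⟩ := (nontrivial_iff_exists_ne (1 : W₂)).1
    ((nontrivial_iff_ne_bot _).2 hP.selfNormalizing.2.1)
  have hx1' : x ≠ 1 := fun e => hx1 (Subtype.ext e)
  have hw1' : w ≠ 1 := fun e => hw1 (Subtype.ext e)
  have h1 : h * x * h⁻¹ ∈ E' := hEh ▸ mem_map_of_mem _ hx
  obtain ⟨x', hx', hx'e⟩ := h1
  have h2 : h * w * h⁻¹ ∈ Cfsg.fittingHallOf M :=
    Coprime.conj_mem (TypeP.le_normalizer_core M (TypeP.core_le M hh)) (TypeP.W₂_le_core hP hw)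
  obtain ⟨w', hw', hw'e⟩ := h2
  simp only [subtype_apply] at hx'e hw'e
  refine PF8.conj_ne_one hw1' (hw'e ▸ congrArg Subtype.val (hfpf x' (hU₀ ▸ hx') ?_ w' hw' ?_))
  · intro e
    exact PF8.conj_ne_one hx1' (hx'e ▸ congrArg Subtype.val e)
  · apply Subtype.ext
    simp only [coe_mul, hx'e, hw'e]
    exact PF8.conj_commute (TypeP.W₂_commute hP hx hw)

/-- In Type II every choice of data has `U ≠ 1`. -/
theorem typeII_U_ne_bot (hII : Cfsg.IsOfTypeII M) {W₁ U W₂ : Subgroup G}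
    (hP : Cfsg.IsTypePWith M W₁ U W₂) : U ≠ ⊥ := by
  obtain ⟨W₁', U', W₂', hP', hU', -⟩ := hII
  obtain ⟨m, -, -, hm, -⟩ := TypeP.conj_data hP hP'
  intro e
  exact hU' (by rw [hm, e, Subgroup.map_bot])

/-- In Type V every choice of data has `U = 1`. -/
theorem typeV_U_eq_bot (hV : Cfsg.IsOfTypeV M) {W₁ U W₂ : Subgroup G}
    (hP : Cfsg.IsTypePWith M W₁ U W₂) : U = ⊥ := by
  obtain ⟨W₁', U', W₂', hP', hU', -⟩ := hV
  obtain ⟨m, -, -, hm, -⟩ := TypeP.conj_data hP' hP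
  rw [hm, hU', Subgroup.map_bot]

/-- In Type III or IV every choice of data has `U ≠ 1`. -/
theorem typeIII_IV_U_ne_bot (h : Cfsg.IsOfTypeIII M ∨ Cfsg.IsOfTypeIV M) {W₁ U W₂ : Subgroup G}
    (hP : Cfsg.IsTypePWith M W₁ U W₂) : U ≠ ⊥ := by
  rcases h with ⟨W₁', U', W₂', hP', hU', -⟩ | ⟨W₁', U', W₂', hP', hU', -⟩ <;>
  · obtain ⟨m, -, -, hm, -⟩ := TypeP.conj_data hP hP'
    intro e
    exact hU' (by rw [hm, e, Subgroup.map_bot])

theorem typeP_of_typeII (h : Cfsg.IsOfTypeII M) : Cfsg.IsOfTypeP M :=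
  let ⟨a, b, c, h, _⟩ := h; ⟨a, b, c, h⟩

theorem typeP_of_typeIII_IV (h : Cfsg.IsOfTypeIII M ∨ Cfsg.IsOfTypeIV M) : Cfsg.IsOfTypeP M := by
  rcases h with ⟨a, b, c, h, -⟩ | ⟨a, b, c, h, -⟩ <;> exact ⟨a, b, c, h⟩

theorem typeP_of_typeV (h : Cfsg.IsOfTypeV M) : Cfsg.IsOfTypeP M :=
  let ⟨a, b, c, h, _⟩ := h; ⟨a, b, c, h⟩

theorem not_typeV_of_typeII (h : Cfsg.IsOfTypeII M) : ¬ Cfsg.IsOfTypeV M := fun hV => by
  obtain ⟨a, b, c, hP⟩ := typeP_of_typeII h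
  exact typeII_U_ne_bot h hP (typeV_U_eq_bot hV hP)

theorem not_typeV_of_typeIII_IV (h : Cfsg.IsOfTypeIII M ∨ Cfsg.IsOfTypeIV M) :
    ¬ Cfsg.IsOfTypeV M := fun hV => by
  obtain ⟨a, b, c, hP⟩ := typeP_of_typeIII_IV h
  exact typeIII_IV_U_ne_bot h hP (typeV_U_eq_bot hV hP)

end Cfsg.Agent.OddOrder.BG16
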