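import Cfsg.Agent.OddOrder.BG16.Supporting

/-!
# Complements in Types I and II; the global structure of the maximal subgroups
-/

set_option autoImplicit false

namespace Cfsg.Agent.OddOrder.BG16

open Subgroup

variable {G : Type*} [Group G] [Finite G] {M K U : Subgroup G}

theorem isSigmaDecomposition_conj (hd : Cfsg.IsSigmaDecomposition M K U) {h : G} (hh : h ∈ M) :
    Cfsg.IsSigmaDecomposition M (K.map (MulAut.conj h).toMonoidHom)
      (U.map (MulAut.conj h).toMonoidHom) := by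
  have hM : M.map (MulAut.conj h).toMonoidHom = M := Coprime.map_conj_eq (le_normalizer hh)
  have hS : (Cfsg.sigmaCore M).map (MulAut.conj h).toMonoidHom = Cfsg.sigmaCore M :=
    Coprime.map_conj_eq (le_normalizer_sigmaCore M hh)
  refine ⟨?_, ⟨(Subgroup.map_mono (dK_le hd)).trans hM.le, ?_, ?_⟩, ?_, ?_⟩
  · have := hd.cyclic
    exact isCyclic_of_surjective _
      (K.equivMapOfInjective _ (MulAut.conj h).injective).surjective
  · rw [Coprime.card_map_conj]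
    exact hd.hall.2.1
  · intro p hp hpκ
    have e := relIndex_map_map_of_injective (f := (MulAut.conj h).toMonoidHom) K M
      (MulAut.conj h).injective
    rw [hM] at e
    rw [e]
    exact hd.hall.2.2 p hp hpκ
  · refine ⟨(Subgroup.map_mono (dU_le hd)).trans hM.le, ?_, ?_, fun m hm => ?_⟩
    · exact sup_le ((Subgroup.map_mono (dK_le hd)).trans hM.le) (sigmaCore_le M)
    · have e : K.map (MulAut.conj h).toMonoidHom ⊔ Cfsg.sigmaCore M =
          (K ⊔ Cfsg.sigmaCore M).map (MulAut.conj h).toMonoidHom := by rw [Subgroup.map_sup, hS]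
      rw [e, ← Subgroup.map_inf _ _ _ (MulAut.conj h).injective, hd.compl.2.2.1, Subgroup.map_bot]
    · rw [← hM] at hm
      obtain ⟨m, hm, rfl⟩ := hm
      obtain ⟨a, ha, b, hb, rfl⟩ := hd.compl.2.2.2 m hm
      refine ⟨_, mem_map_of_mem _ ha, _, ?_, map_mul _ a b⟩
      rw [← hS, ← Subgroup.map_sup]
      exact mem_map_of_mem _ hb
  · exact TypeP.conj_le_normalizer hd.normal h

section
variable (hG : Cfsg.IsMinSimpleOddOrder G) (F : SectionFacts G) (hM : IsCoatom M)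
include hG F hM

/-- A complement to `M_F` in `M` (Type I) or in `M'` (Type II) is the `U` of some factorisation. -/
theorem exists_decomposition_of_compl {U : Subgroup G}
    (hU : (IsTypeI M ∧ Cfsg.IsComplIn (Cfsg.fittingHallOf M) U M) ∨
      (Cfsg.IsOfTypeII M ∧ Cfsg.IsComplIn (Cfsg.fittingHallOf M) U ⁅M, M⁆)) :
    (∃ K : Subgroup G, Cfsg.IsSigmaDecomposition M K U) ∧
      Cfsg.fittingHallOf M = Cfsg.sigmaCore M := by
  obtain ⟨K₀, U₀, hd⟩ := decomposition_exists F hM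
  obtain ⟨hI, hII, -, -⟩ := classification hG F hM hd
  rcases hU with ⟨h, hc⟩ | ⟨h, hc⟩
  · obtain ⟨hK, hU0⟩ := hI.1 h
    have hFS := core_eq_sigma hd F hM hU0
    refine ⟨⟨⊥, inferInstance, hK ▸ hd.hall, ?_, bot_le⟩, hFS⟩
    rw [bot_sup_eq, ← hFS]
    exact isComplIn_symm hc
  · obtain ⟨hK, hU0⟩ := hII.1 h
    have hFS := core_eq_sigma hd F hM hU0
    rw [hFS] at hc
    have hder := derived_eq F hM hd hK
    have hcard : Nat.card U = Nat.card U₀ := by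
      have e := H41.IsComplIn.card_eq hc
      rw [hder, card_US hd] at e
      exact (Nat.eq_of_mul_eq_mul_left Nat.card_pos e).symm
    have hcop : (Nat.card U₀).Coprime (Nat.card (Cfsg.sigmaCore M)) :=
      ((coprime_sigma_rest hd F hM).coprime_dvd_right (dvd_mul_left _ _)).symm
    obtain ⟨s, hs, hsU⟩ := Coprime.exists_conj_of_solvable_kernel _ (Cfsg.sigmaCore M) U₀ U
      le_rfl (isSolvable_of_le_max hG hM (sigmaCore_le M)) (dU_normalizes_sigma hd)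
      (hc.2.1.trans (hder.le.trans (sup_comm _ _).le)) hcard hcop
    refine ⟨⟨_, hsU ▸ isSigmaDecomposition_conj hd (sigmaCore_le M hs)⟩, hFS⟩

theorem ti_typeA_diff : Cfsg.IsTISubset (setA M \ Cfsg.typeA1 M) := by
  intro g hg x hx hgx
  exfalso
  have hxσ : x ∉ Cfsg.sigmaCore M := fun h =>
    hx.2 ((mem_typeA1_iff hG F hM).2 ⟨h, fun e => PF8.one_not_mem_typeA M (e ▸ hx.1)⟩)
  have hgM := fusion_outside hG F hM hx.1 hxσ hgx.1
  have key : ∀ n ∈ M, ∀ y ∈ setA M \ Cfsg.typeA1 M,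
      n * y * n⁻¹ ∈ setA M \ Cfsg.typeA1 M := fun n hn y hy =>
    ⟨PF8.conj_mem_typeA hn hy.1, fun h' => hy.2 (by
      have h'' := PF8.conj_mem_typeA1 (inv_mem hn) h'
      rwa [show n⁻¹ * (n * y * n⁻¹) * n⁻¹⁻¹ = y by group] at h'')⟩
  refine hg (mem_set_normalizer_iff.2 fun y => ⟨fun hy => key g hgM y hy, fun hy => ?_⟩)
  have h := key g⁻¹ (inv_mem hgM) _ hy
  rwa [show g⁻¹ * (g * y * g⁻¹) * g⁻¹⁻¹ = y by group] at h

/-- S1390. -/
theorem complement_properties {U : Subgroup G}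
    (hU : (IsTypeI M ∧ Cfsg.IsComplIn (Cfsg.fittingHallOf M) U M) ∨
      (Cfsg.IsOfTypeII M ∧ Cfsg.IsComplIn (Cfsg.fittingHallOf M) U ⁅M, M⁆)) :
    (∀ (p : ℕ), p.Prime → ∀ P : Sylow p U, IsMulCommutative (P : Subgroup U) ∧
        Cfsg.PRankLE p 2 (P : Subgroup U)) ∧
      (∀ X : Set G, X ⊆ (U : Set G) \ {1} → X.Nonempty →
        Cfsg.fittingHallOf M ⊓ centralizer X ≠ ⊥ →
        centralizer X ≤ M ∧ ∀ L : Subgroup G, IsCoatom L → centralizer X ≤ L → L = M) ∧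
      Cfsg.IsTISubset (setA M \ Cfsg.typeA1 M) := by
  obtain ⟨⟨K, hd⟩, hFS⟩ := exists_decomposition_of_compl hG F hM hU
  refine ⟨F.s1358 M hM K U hd, fun X hX hne hc => ?_, ti_typeA_diff hG F hM⟩
  rw [hFS, ← centralizer_closure X] at hc
  rw [← centralizer_closure X]
  refine F.s1361 M hM K U hd (closure X) ((closure_le U).2 fun y hy => (hX hy).1) ?_ hc
  obtain ⟨y, hy⟩ := hne
  intro e
  exact (hX hy).2 ((mem_bot.1 (e ▸ subset_closure hy : y ∈ (⊥ : Subgroup G)) : y = 1))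

theorem type_P_cases (hd : Cfsg.IsSigmaDecomposition M K U) (hK : K ≠ ⊥) :
    Cfsg.IsOfTypeII M ∨ Cfsg.IsOfTypeIII M ∨ Cfsg.IsOfTypeIV M ∨ Cfsg.IsOfTypeV M := by
  obtain ⟨-, hII, h34, hV⟩ := classification hG F hM hd
  rcases eq_or_ne U ⊥ with hU | hU
  · rcases eq_or_ne (Cfsg.fittingHallOf M) (Cfsg.sigmaCore M) with hF | hF
    · exact Or.inr (Or.inr (Or.inr (hV.2 ⟨hK, hU, hF⟩)))
    · rcases h34.2 ⟨hK, hU, hF⟩ with h | h
      · exact Or.inr (Or.inl h)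
      · exact Or.inr (Or.inr (Or.inl h))
  · exact Or.inl (hII.2 ⟨hK, hU⟩)

end

/-- S1385. -/
theorem maximal_structure (hG : Cfsg.IsMinSimpleOddOrder G) (F : SectionFacts G) :
    (∀ M : Subgroup G, IsCoatom M → IsTypeI M) ∨
      ∃ W₁ W₂ S T : Subgroup G, Cfsg.IsSelfNormalizingCyclic W₁ W₂ ∧ IsCoatom S ∧ IsCoatom T ∧
        Cfsg.IsComplIn ⁅S, S⁆ W₁ S ∧ Cfsg.IsComplIn ⁅T, T⁆ W₂ T ∧ S ⊓ T = W₁ ⊔ W₂ ∧
        (Cfsg.IsOfTypeII S ∨ Cfsg.IsOfTypeII T) ∧
        (Cfsg.IsOfTypeII S ∨ Cfsg.IsOfTypeIII S ∨ Cfsg.IsOfTypeIV S ∨ Cfsg.IsOfTypeV S) ∧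
        (Cfsg.IsOfTypeII T ∨ Cfsg.IsOfTypeIII T ∨ Cfsg.IsOfTypeIV T ∨ Cfsg.IsOfTypeV T) ∧
        ∀ M : Subgroup G, IsCoatom M → IsTypeI M ∨
          ∃ g : G, M = S.map (MulAut.conj g).toMonoidHom ∨ M = T.map (MulAut.conj g).toMonoidHom := by
  by_cases hall : ∀ M : Subgroup G, IsCoatom M → IsTypeI M
  · exact Or.inl hall
  push Not at hall
  obtain ⟨S, hS, hSI⟩ := hall
  obtain ⟨K, U, hd⟩ := decomposition_exists F hS
  have hK : K ≠ ⊥ := fun e => hSI ((typeI_iff hG F hS).2 ((K_eq_bot_iff hd).1 e))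
  obtain ⟨T, ⟨hT, h1, h2⟩, -⟩ := F.s1366 S hS K U hd hK
  obtain ⟨hST, -⟩ := F.s1368 S hS K U hd hK T hT h1 h2
  obtain ⟨hor, hconj⟩ := F.s1369 S hS K U hd hK T hT h1 h2
  obtain ⟨hcyc, hne, -, -⟩ := F.s1364 S hS K U hd hK
  obtain ⟨U', hd'⟩ := (F.s1352 T hT _ hcyc h2).1
  refine Or.inr ⟨K, _, S, T, selfNormalizing F hS hd hK, hS, hT, compl_derived F hS hd hK,
    compl_derived F hT hd' hne, hST, ?_, type_P_cases hG F hS hd hK, type_P_cases hG F hT hd' hne,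
    fun M hM => ?_⟩
  · rcases hor with h | h
    · exact Or.inl ((classification hG F hS hd).2.1.2 ⟨hK, h⟩)
    · exact Or.inr ((classification hG F hT hd').2.1.2 ⟨hne, h U' hd'⟩)
  · rcases (Cfsg.kappa M).eq_empty_or_nonempty with h | h
    · exact Or.inl ((typeI_iff hG F hM).2 h)
    · exact Or.inr (hconj M hM h)

end Cfsg.Agent.OddOrder.BG16
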