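import Cfsg.Agent.Frobenius.NoFrobenius
import Cfsg.Agent.Coprime.Basic

/-!
# A non-abelian group of order qr has no fixed-point-free action; central elements of an abelian Sylow
subgroup outside the derived group
-/

set_option autoImplicit false

namespace Cfsg.Agent.OddOrder.BG16

open Subgroup

variable {G : Type*} [Group G] [Finite G]

theorem mem_zpowers_of_prime {c x : G} (hc : (orderOf c).Prime) (hx : x ∈ zpowers c) (hx1 : x ≠ 1) :
    c ∈ zpowers x := by
  have hle : zpowers x ≤ zpowers c := zpowers_le.2 hx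
  have hd := card_dvd_of_le hle
  rw [Nat.card_zpowers, Nat.card_zpowers] at hd
  have e : orderOf x = orderOf c :=
    (hc.eq_one_or_self_of_dvd _ hd).resolve_left (mt orderOf_eq_one_iff.1 hx1)
  rw [eq_of_le_of_card_ge hle (by rw [Nat.card_zpowers, Nat.card_zpowers, e])]
  exact mem_zpowers c

theorem commute_of_prime {c x b : G} (hc : (orderOf c).Prime) (hx : x ∈ zpowers c) (hx1 : x ≠ 1)
    (h : Commute x b) : Commute c b := by
  obtain ⟨i, hi⟩ := mem_zpowers_iff.1 (mem_zpowers_of_prime hc hx hx1)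
  rw [← hi]
  exact h.zpow_left i

/-- A non-abelian group `⟨c⟩⟨u⟩` of order `q r` does not act without fixed points on a non-trivial
abelian group. -/
theorem eq_bot_of_fpf_metacyclic {Z : Subgroup G} [IsMulCommutative Z] {c u : G}
    (hc : c ∈ normalizer (Z : Set G)) (hu : u ∈ normalizer (Z : Set G)) (hcp : (orderOf c).Prime)
    (hup : (orderOf u).Prime) (huc : u * c * u⁻¹ ∈ zpowers c) (hne : ¬ Commute c u)
    (fc : ∀ v ∈ Z, c * v = v * c → v = 1) (fu : ∀ v ∈ Z, u * v = v * u → v = 1) : Z = ⊥ := by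
  classical
  by_contra hZ
  haveI : Nontrivial Z := (nontrivial_iff_ne_bot _).2 hZ
  letI : CommGroup Z := { (inferInstance : Group Z) with mul_comm := IsMulCommutative.is_comm.comm }
  have hcu : zpowers u ≤ normalizer (zpowers c : Set G) := by
    rw [zpowers_le]
    refine Coprime.mem_normalizer_of_map_conj ?_
    rw [MonoidHom.map_zpowers]
    refine eq_of_le_of_card_ge (zpowers_le.2 huc) ?_
    rw [Nat.card_zpowers, Nat.card_zpowers]
    exact (MulEquiv.orderOf_eq (MulAut.conj u) c).ge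
  set T := zpowers c ⊔ zpowers u with hT
  have hTN : T ≤ normalizer (Z : Set G) := sup_le (zpowers_le.2 hc) (zpowers_le.2 hu)
  have hinf : ∀ x ∈ zpowers c, x ∈ zpowers u → x = 1 := by
    intro x hx hx'
    by_contra hx1
    obtain ⟨i, hi⟩ := mem_zpowers_iff.1 hx'
    exact hne (commute_of_prime hcp hx hx1 (hi ▸ (Commute.refl u).zpow_left i))
  have hfree : ∀ h ∈ zpowers c, ∀ b ∈ zpowers u, b ≠ 1 → Commute h b → h = 1 := by
    intro h hh b hb hb1 hcomm
    by_contra hh1
    exact hne (commute_of_prime hup hb hb1 (commute_of_prime hcp hh hh1 hcomm).symm).symm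
  have cls : ∀ t ∈ T, t ∈ zpowers c ∨
      ∃ h ∈ zpowers c, ∃ b ∈ zpowers u, b ≠ 1 ∧ t = h * b * h⁻¹ := by
    intro t ht
    obtain ⟨a, ha, b, hb, e⟩ := (Coprime.mem_sup_iff hcu).1 ht
    rcases eq_or_ne b 1 with rfl | hb1
    · rw [mul_one] at e
      exact Or.inl (e ▸ ha)
    refine Or.inr ?_
    let f : ↥(zpowers c) → ↥(zpowers c) := fun h => ⟨(h : G) * (b * (h : G)⁻¹ * b⁻¹),
      mul_mem h.2 (Coprime.conj_mem (hcu hb) (inv_mem h.2))⟩
    have hf : Function.Injective f := by
      intro h₁ h₂ he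
      have he' : (h₁ : G) * (b * (h₁ : G)⁻¹ * b⁻¹) = (h₂ : G) * (b * (h₂ : G)⁻¹ * b⁻¹) :=
        congrArg Subtype.val he
      have : Commute ((h₂ : G)⁻¹ * h₁) b := by
        show (h₂ : G)⁻¹ * h₁ * b = b * ((h₂ : G)⁻¹ * h₁)
        calc (h₂ : G)⁻¹ * h₁ * b
            = (h₂ : G)⁻¹ * ((h₁ : G) * (b * (h₁ : G)⁻¹ * b⁻¹)) * (b * h₁) := by group
          _ = (h₂ : G)⁻¹ * ((h₂ : G) * (b * (h₂ : G)⁻¹ * b⁻¹)) * (b * h₁) := by rw [he']
          _ = b * ((h₂ : G)⁻¹ * h₁) := by group
      exact Subtype.ext (inv_mul_eq_one.1 (hfree _ (mul_mem (inv_mem h₂.2) h₁.2) b hb hb1 this)).symm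
    obtain ⟨h, hh⟩ := (Finite.injective_iff_surjective.1 hf) ⟨a, ha⟩
    refine ⟨h, h.2, b, hb, hb1, ?_⟩
    rw [← e, ← show (h : G) * (b * (h : G)⁻¹ * b⁻¹) = a from congrArg Subtype.val hh]
    group
  -- the action of `T` on `Z`
  let φ : T →* MulAut Z := Z.normalizerMonoidHom.comp (inclusion hTN)
  have hfpf : Frobenius.IsFPF φ := by
    intro t ht m hm
    have hm' : (t : G) * m * (t : G)⁻¹ = m := congrArg Subtype.val hm
    have hcomm : Commute (t : G) m := mul_inv_eq_iff_eq_mul.1 hm'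
    rcases cls t t.2 with htc | ⟨h, hh, b, hb, hb1, e⟩
    · exact Subtype.ext (fc m m.2
        (commute_of_prime hcp htc (fun e => ht (Subtype.ext e)) hcomm).eq)
    · have hn := (zpowers_le.2 hc) hh
      have hm2 : h⁻¹ * m * h ∈ Z := by
        have := Coprime.conj_mem (inv_mem hn) m.2
        rwa [inv_inv] at this
      have hb' : Commute b (h⁻¹ * m * h) := by
        show b * (h⁻¹ * m * h) = h⁻¹ * m * h * b
        calc b * (h⁻¹ * m * h) = h⁻¹ * ((h * b * h⁻¹) * m) * h := by group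
          _ = h⁻¹ * (m * (h * b * h⁻¹)) * h := by rw [← e, hcomm.eq]
          _ = h⁻¹ * m * h * b := by group
      have := fu _ hm2 (commute_of_prime hup hb hb1 hb').eq
      apply Subtype.ext
      calc (m : G) = h * (h⁻¹ * m * h) * h⁻¹ := by group
        _ = 1 := by rw [this]; group
  -- `⟨u⟩` is a Frobenius complement in `T`
  refine Frobenius.not_isFrobeniusComplement hfpf ((zpowers u).subgroupOf T)
    (Frobenius.isFrobeniusComplement_of ?_ ?_ ?_)
  · intro e
    have : (⟨u, mem_sup_right (mem_zpowers u)⟩ : T) ∈ (zpowers u).subgroupOf T := mem_zpowers u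
    rw [e, mem_bot] at this
    exact hne (by rw [show u = 1 from congrArg Subtype.val this]; exact Commute.one_right c)
  · intro e
    have : (⟨c, mem_sup_left (mem_zpowers c)⟩ : T) ∈ (zpowers u).subgroupOf T := e ▸ mem_top _
    exact hcp.ne_one (orderOf_eq_one_iff.2 (hinf c (mem_zpowers c) this))
  · intro g x hx hx1 hgx
    obtain ⟨a, ha, b, hb, e⟩ := (Coprime.mem_sup_iff hcu).1 g.2
    have hb' : b ∈ zpowers u := hb
    have h1 : a⁻¹ * (x : G) * a ∈ zpowers u := by
      have := mul_mem (mul_mem hb' (show ((g⁻¹ * x * g : T) : G) ∈ zpowers u from hgx)) (inv_mem hb')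
      rw [show b * ((g⁻¹ * x * g : T) : G) * b⁻¹ = a⁻¹ * (x : G) * a by
        simp only [coe_mul, coe_inv, ← e]; group] at this
      exact this
    have h2 : a⁻¹ * (x : G) * a * (x : G)⁻¹ = 1 := by
      refine hinf _ ?_ (mul_mem h1 (inv_mem hx))
      rw [show a⁻¹ * (x : G) * a * (x : G)⁻¹ = a⁻¹ * ((x : G) * a * (x : G)⁻¹) by group]
      exact mul_mem (inv_mem ha) (Coprime.conj_mem (hcu hx) ha)
    have hax : Commute a (x : G) := by
      show a * (x : G) = (x : G) * a
      calc a * (x : G) = a * (a⁻¹ * (x : G) * a * (x : G)⁻¹) * x := by rw [h2]; group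
        _ = (x : G) * a := by group
    have ha1 : a = 1 := hfree a ha x hx (fun e => hx1 (Subtype.ext e)) hax
    show (g : G) ∈ zpowers u
    rw [← e, ha1, one_mul]
    exact hb

/-- A central element of an abelian Sylow subgroup lying in the derived subgroup is trivial. -/
theorem eq_one_of_central_of_mem_commutator {r : ℕ} [Fact r.Prime] (R : Sylow r G)
    [IsMulCommutative (R : Subgroup G)] {z : G} (hz : z ∈ (R : Subgroup G))
    (hc : z ∈ center G) (hd : z ∈ commutator G) : z = 1 := by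
  letI : CommGroup (R : Subgroup G) :=
    { (inferInstance : Group (R : Subgroup G)) with mul_comm := IsMulCommutative.is_comm.comm }
  have key : ∀ (k : ℕ) (g₀ : G), g₀⁻¹ * z ^ k * g₀ ∈ (R : Subgroup G) → g₀⁻¹ * z ^ k * g₀ = z ^ k := by
    intro k g₀ _
    rw [mul_assoc, ← mem_center_iff.1 (pow_mem hc k) g₀, inv_mul_cancel_left]
  have h1 : (MonoidHom.id (R : Subgroup G)).transfer z = 1 :=
    MonoidHom.mem_ker.1 (Abelianization.commutator_subset_ker _ hd)
  rw [MonoidHom.transfer_eq_pow _ z key] at h1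
  have h2 : z ^ (R : Subgroup G).index = 1 := congrArg Subtype.val h1
  obtain ⟨k, hk⟩ := IsPGroup.iff_orderOf.1 R.isPGroup' ⟨z, hz⟩
  rw [orderOf_mk] at hk
  have hd1 : orderOf z ∣ (R : Subgroup G).index := orderOf_dvd_of_pow_eq_one h2
  rcases Nat.eq_zero_or_pos k with rfl | hpos
  · simpa using hk
  · exact absurd ((hk ▸ dvd_pow_self r hpos.ne').trans hd1) R.not_dvd_index

end Cfsg.Agent.OddOrder.BG16
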