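import Cfsg.Agent.OddOrder.BG16.SectionFacts
import Cfsg.Agent.OddOrder.BG14.Facts
import Cfsg.Agent.OddOrder.BG15.HallFusion
import Cfsg.Agent.OddOrder.BG15.Fti
import Cfsg.Agent.OddOrder.BG15.Fitting
import Cfsg.Agent.OddOrder.BG15.ThmC
import Cfsg.Agent.OddOrder.BG15.NonTI
import Cfsg.Agent.OddOrder.BG15.Instance
import Cfsg.Agent.S1350
import Cfsg.Agent.S1370
import Cfsg.Agent.S1371

/-!
# The interface of section 16 from the results of sections 14 and 15

`sectionFacts_of` assembles `SectionFacts G` from the package `BG15.Facts G`; the shapes of S1376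
and of the weak S1440 are arguments.
-/

set_option autoImplicit false
set_option linter.unusedVariables false

universe u

namespace Cfsg.Agent.OddOrder.BG16

/-- The shape of S1376. -/
def FrobeniusWitness (G : Type u) [Group G] [Finite G] : Prop :=
  ∀ (M : Subgroup G) (hM : IsCoatom M) (x : G) (hx : x ∈ Cfsg.sigmaCore M) (hx1 : x ≠ 1) (hxM : ¬ Subgroup.centralizer ({x} : Set G) ≤ M) (N : Subgroup G) (hN : IsCoatom N) (hxN : Subgroup.centralizer ({x} : Set G) ≤ N) (hkN : (Cfsg.kappa N).Nonempty),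
    Cfsg.kappa M = ∅ ∧ (∃ E : Subgroup ↥M, Cfsg.IsFrobeniusComplement E ∧ IsCyclic E) ∧ ¬ Cfsg.IsTISubset (Cfsg.fittingHallOf M : Set G)

/-- The shape of S1440, with `⁅M, M⁆ ≤ F(M)`. -/
def FittingNonTI (G : Type u) [Group G] [Finite G] : Prop :=
  ∀ (M : Subgroup G) (hM : IsCoatom M) (K U : Subgroup G) (hKU : Cfsg.IsSigmaDecomposition M K U) (g : G) (hg : g ∉ M) (hX : Cfsg.fittingOf M ⊓ (Cfsg.fittingOf M).map (MulAut.conj g).toMonoidHom ≠ ⊥),
    (Cfsg.fittingOf M ⊓ (Cfsg.fittingOf M).map (MulAut.conj g).toMonoidHom ≤ Cfsg.fittingHallOf M ∧ IsCyclic ↥(Cfsg.fittingOf M ⊓ (Cfsg.fittingOf M).map (MulAut.conj g).toMonoidHom)) ∧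
      (⁅M, M⁆ ≤ Cfsg.fittingOf M ∧ Cfsg.fittingOf M = Cfsg.sigmaCore M ⊔ Cfsg.piCoreOf {q | q.Prime ∧ q ∉ Cfsg.sigma M} (Cfsg.fittingOf M)) ∧
      ((K = ⊥ ∧ IsMulCommutative (Cfsg.fittingHallOf M) ∧ Cfsg.RankLE 2 (Cfsg.fittingHallOf M) ∧ ¬ Cfsg.RankLE 1 (Cfsg.fittingHallOf M)) ∨
       (∃ p : ℕ, p.Prime ∧ Nat.card ↥(Cfsg.fittingOf M ⊓ (Cfsg.fittingOf M).map (MulAut.conj g).toMonoidHom) = p ∧ p ∈ Cfsg.sigma M ∧ p ∉ Cfsg.beta M ∧
          ¬ IsMulCommutative (Cfsg.pCore p ↥(Cfsg.fittingHallOf M)) ∧ IsCyclic (Cfsg.pPrimeCore p ↥(Cfsg.fittingHallOf M)) ∧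
          ∀ q : ℕ, q.Prime → q ∣ Nat.card (Cfsg.fittingHallOf M) → Monoid.exponent (↥M ⧸ Cfsg.fittingHall ↥M) ∣ q - 1) ∨
       (∃ p : ℕ, p.Prime ∧ Nat.card ↥(Cfsg.fittingOf M ⊓ (Cfsg.fittingOf M).map (MulAut.conj g).toMonoidHom) = p ∧ p ∈ Cfsg.sigma M ∧ p ∉ Cfsg.beta M ∧
          IsCyclic (Cfsg.pPrimeCore p ↥(Cfsg.fittingHallOf M)) ∧ Nat.card (Cfsg.pCore p ↥(Cfsg.fittingHallOf M)) = p ^ 3 ∧
          ¬ IsMulCommutative (Cfsg.pCore p ↥(Cfsg.fittingHallOf M)) ∧ K ≠ ⊥ ∧ U = ⊥ ∧ (Cfsg.fittingHallOf M).relIndex M ∣ p + 1))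

variable {G : Type u} [Group G] [Finite G]

theorem fittingNonTI (h : BG15.Facts G) : FittingNonTI G :=
  fun M hM K U D g hg hX => BG15.nonTI_structure h hM D hg hX

theorem sectionFacts_of (hG : Cfsg.IsMinSimpleOddOrder G) (h : BG15.Facts G)
    (h76 : FrobeniusWitness G) (h40 : FittingNonTI G) : SectionFacts G where
  s1350 := fun M hM => S1350.result hG M hM
  s1351 := h.kappaHall
  s1352 := h.decompExists
  s1353 := h.kActsFpf
  s1354 := h.kCentralizer
  s1355 := fun M hM => BG15.fcore_structure h hM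
  s1356 := fun M hM => BG15.fitting_structure h hM
  s1357 := fun M hM K U D hne => BG15.fitting_ti h hM D hne
  s1358 := fun M hM K U D => BG15.sylow_U h hM D
  s1359 := fun M hM K U D => BG15.hat_comm h hM D
  s1360 := fun M hM K U D => BG15.exists_exponent_fpf h hM D
  s1361 := fun M hM K U D X hXU hX hXc => BG15.hat_unique h hM D hXU hX hXc
  s1362 := fun M hM K U D => BG15.sigmaA_ti h hM D
  s1363 := fun M hM K U D hK1 => BG15.U_structure h hM D hK1
  s1364 := fun M hM K U D hK1 => ⟨BG15.isCyclic_kStar h hM D hK1,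
    (h.kCentralizer M hM K D.cyclic D.hall).1, BG15.kStar_le_fittingHallOf h hM D,
    BG15.not_isCyclic_fittingHallOf h hM D hK1⟩
  s1365 := fun M hM K U D hK1 => BG15.derived_structure h hM D hK1
  s1366 := h.starExists
  s1368 := h.starInf
  s1369 := h.starClasses
  s1370 := fun M hM K U D hK1 => S1370.result hG M hM K U D hK1
  s1371 := fun M hM K U D hK1 => S1371.result hG M hM K U D hK1
  s1372 := fun M hM K U D hK1 hU1 => ⟨(BG15.P2_structure h hM D hK1 hU1).1,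
    BG15.fittingOf_ti h hM D hK1 hU1,
    BG15.le_fittingOf (sigmaCore_le M) (le_normalizer_sigmaCore M)
      (BG15.P2_structure h hM D hK1 hU1).2.1⟩
  s1374 := h.supportTrans
  s1375 := h.supportMax
  s1376 := h76
  s1378 := BG14.sigma_partition hG
  s1432 := h.sigmaHatCases
  s1436 := fun M hM x hx hx1 hxM N hN hxN =>
    BG14.two_maximals (BG13.hyp hG) (BG14.results13 hG) hM hx hx1 hxM hN hxN
  s1438 := fun M hM H hH hH1 hHall =>
    ⟨BG15.centralizer_hall_eq h hM hH hH1 hHall, BG15.hall_fusion h hM hH hHall⟩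
  s1439 := fun M hM => BG15.sigma'_fitting h hM
  s1440 := h40

/-- The interface, given S1376. -/
theorem sectionFacts_of_witness (hG : Cfsg.IsMinSimpleOddOrder G) (h76 : FrobeniusWitness G) :
    SectionFacts G :=
  sectionFacts_of hG (BG15.facts hG) h76 (fittingNonTI (BG15.facts hG))

end Cfsg.Agent.OddOrder.BG16
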