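import Cfsg.Agent.OddOrder.BG16.Decomposition
import Cfsg.Agent.OddOrder.BG16.Metacyclic
import Cfsg.Agent.Coprime.Abelian
import Cfsg.Agent.OddOrder.PF9.TypeP
import Cfsg.Agent.Cores.Fitting
import Cfsg.Agent.Components.Fitting

/-!
# The exceptional case of Type I: `O_{p'}(M)` is cyclic

When `F(M)` meets a conjugate in a subgroup `X` of order `p` and `O_{p'}(M_F)` is cyclic, `O_{p'}(M)`
centralises `M_F`: otherwise a non-abelian subgroup of order `q r` of `C_M(X)` would act without fixed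
points on `N_σ`, where `N` is the maximal subgroup containing `C_G(X)`.
-/

set_option autoImplicit false

namespace Cfsg.Agent.OddOrder.BG16

open Subgroup
open scoped commutatorElement

variable {G : Type*} [Group G] [Finite G] {M : Subgroup G}

theorem commute_of_normal_coprime {A B : Subgroup G} (hA : A ≤ M) (hB : B ≤ M)
    (hAn : M ≤ normalizer (A : Set G)) (hBn : M ≤ normalizer (B : Set G))
    (hc : (Nat.card A).Coprime (Nat.card B)) {a b : G} (ha : a ∈ A) (hb : b ∈ B) : Commute a b := by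
  have h : a * b * a⁻¹ * b⁻¹ ∈ A ⊓ B := by
    refine ⟨?_, ?_⟩
    · rw [show a * b * a⁻¹ * b⁻¹ = a * (b * a⁻¹ * b⁻¹) by group]
      exact A.mul_mem ha (Coprime.conj_mem (hAn (hB hb)) (A.inv_mem ha))
    · exact B.mul_mem (Coprime.conj_mem (hBn (hA ha)) hb) (B.inv_mem hb)
  rw [Coprime.inf_eq_bot hc, mem_bot] at h
  exact (commutatorElement_eq_one_iff_mul_comm.1 h : a * b = b * a)

/-- An element of order coprime to the index of a normal subgroup lies in it. -/
theorem mem_of_coprime_relIndex {N : Subgroup G} (hNM : N ≤ M) (hn : M ≤ normalizer (N : Set G))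
    {x : G} (hx : x ∈ M) (hc : (orderOf x).Coprime (N.relIndex M)) : x ∈ N := by
  have := (normal_subgroupOf_iff_le_normalizer hNM).2 hn
  have h1 : x ^ N.relIndex M ∈ N := pow_index_mem (N.subgroupOf M) ⟨x, hx⟩
  obtain ⟨m, hm⟩ := exists_pow_eq_self_of_coprime hc.symm
  rw [← hm]
  exact pow_mem h1 m

/-- A cyclic group is acted upon by powers. -/
theorem exists_zpow_of_cyclic {Y : Subgroup G} (hY : IsCyclic Y) {n : G}
    (hn : n ∈ normalizer (Y : Set G)) : ∃ m : ℤ, ∀ y ∈ Y, n * y * n⁻¹ = y ^ m := by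
  haveI := hY
  obtain ⟨m, hm⟩ := MonoidHom.map_cyclic (Y.normalizerMonoidHom ⟨n, hn⟩).toMonoidHom
  exact ⟨m, fun y hy => by simpa using congrArg Subtype.val (hm ⟨y, hy⟩)⟩

theorem comm_of_isCyclic {Y : Subgroup G} (hY : IsCyclic Y) {a b : G} (ha : a ∈ Y) (hb : b ∈ Y) :
    Commute a b := by
  haveI := hY
  letI := IsCyclic.commGroup (α := Y)
  exact congrArg Subtype.val (mul_comm (⟨a, ha⟩ : Y) ⟨b, hb⟩)

theorem exists_zpowers_eq {A : Subgroup G} (hA : IsCyclic A) : ∃ a : G, A = zpowers a := by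
  haveI := hA
  obtain ⟨a, ha⟩ := IsCyclic.exists_generator (α := A)
  refine ⟨a, le_antisymm (fun x hx => ?_) (zpowers_le.2 a.2)⟩
  obtain ⟨i, hi⟩ := mem_zpowers_iff.1 (ha ⟨x, hx⟩)
  exact mem_zpowers_iff.2 ⟨i, by rw [← SubgroupClass.coe_zpow, hi]⟩

theorem isCyclic_sup_of_coprime {A B : Subgroup G} (hA : IsCyclic A) (hB : IsCyclic B)
    (hcomm : ∀ a ∈ A, ∀ b ∈ B, Commute a b) (hc : (Nat.card A).Coprime (Nat.card B)) :
    IsCyclic ↥(A ⊔ B) := by
  obtain ⟨a, rfl⟩ := exists_zpowers_eq hA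
  obtain ⟨b, rfl⟩ := exists_zpowers_eq hB
  rw [Nat.card_zpowers, Nat.card_zpowers] at hc
  have hab := hcomm a (mem_zpowers a) b (mem_zpowers b)
  have h : zpowers a ⊔ zpowers b = zpowers (a * b) := by
    refine le_antisymm (sup_le (zpowers_le.2 ?_) (zpowers_le.2 ?_))
      (zpowers_le.2 (mul_mem_sup (mem_zpowers a) (mem_zpowers b)))
    · obtain ⟨k, hk1, hk0⟩ := Nat.chineseRemainder hc 1 0
      have : (a * b) ^ k = a := by
        rw [hab.mul_pow, pow_eq_pow_iff_modEq.2 hk1, pow_eq_pow_iff_modEq.2 hk0, pow_one, pow_zero,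
          mul_one]
      have hmem := npow_mem_zpowers (a * b) k
      rwa [this] at hmem
    · obtain ⟨k, hk0, hk1⟩ := Nat.chineseRemainder hc 0 1
      have : (a * b) ^ k = b := by
        rw [hab.mul_pow, pow_eq_pow_iff_modEq.2 hk0, pow_eq_pow_iff_modEq.2 hk1, pow_one, pow_zero,
          one_mul]
      have hmem := npow_mem_zpowers (a * b) k
      rwa [this] at hmem
  rw [h]
  infer_instance

theorem fittingOf_le_normalizer (M : Subgroup G) : M ≤ normalizer (Cfsg.fittingOf M : Set G) := by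
  refine (le_normalizer_map M.subtype).trans' ?_
  rw [normalizer_eq_top, ← MonoidHom.range_eq_map, range_subtype]

theorem fittingOf_le (M : Subgroup G) : Cfsg.fittingOf M ≤ M := map_subtype_le _

theorem le_normalizer_piCoreOf_fitting (π : Set ℕ) (M : Subgroup G) :
    M ≤ normalizer (Cfsg.piCoreOf π (Cfsg.fittingOf M) : Set G) := fun m hm =>
  Coprime.mem_normalizer_of_map_conj
    ((piCoreOf_map (MulAut.conj m) π _).trans
      (congrArg _ (Coprime.map_conj_eq (fittingOf_le_normalizer M hm))))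

/-- An element of minimal order outside `C(C0)` has prime power order. -/
theorem exists_minimal_noncentral {W : Subgroup G} {C0 : Set G}
    (hne : ∃ w ∈ W, w ∉ centralizer C0) :
    ∃ u ∈ W, u ∉ centralizer C0 ∧ (∀ v ∈ W, orderOf v < orderOf u → v ∈ centralizer C0) ∧
      ∃ r k : ℕ, r.Prime ∧ orderOf u = r ^ (k + 1) := by
  classical
  have hex : ∃ n, ∃ u ∈ W, u ∉ centralizer C0 ∧ orderOf u = n :=
    let ⟨w, hw, hw'⟩ := hne; ⟨_, w, hw, hw', rfl⟩
  obtain ⟨u, hu, hu', hn⟩ := Nat.find_spec hex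
  have hmin : ∀ v ∈ W, orderOf v < orderOf u → v ∈ centralizer C0 := by
    intro v hv hlt
    by_contra hv'
    exact (Nat.find_min' hex ⟨v, hv, hv', rfl⟩).not_gt (hn ▸ hlt)
  refine ⟨u, hu, hu', hmin, ?_⟩
  have hu1 : orderOf u ≠ 1 := fun e => hu' (by rw [orderOf_eq_one_iff.1 e]; exact one_mem _)
  obtain ⟨r, hr, hrd⟩ := Nat.exists_prime_and_dvd hu1
  obtain ⟨k, m, hm, hkm⟩ := Nat.exists_eq_pow_mul_and_not_dvd (orderOf_pos u).ne' r hr.ne_one
  rcases Nat.eq_zero_or_pos k with rfl | hk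
  · exact absurd (by rw [hkm, pow_zero, one_mul] at hrd; exact hrd) hm
  obtain ⟨k, rfl⟩ : ∃ j, k = j + 1 := ⟨k - 1, by omega⟩
  refine ⟨r, k, hr, ?_⟩
  by_contra hne'
  have hm1 : m ≠ 1 := fun e => hne' (by rw [hkm, e, mul_one])
  have hm0 : 0 < m := Nat.pos_of_ne_zero fun e => (orderOf_pos u).ne' (by rw [hkm, e, mul_zero])
  have hpow : 1 < r ^ (k + 1) := Nat.one_lt_pow k.succ_ne_zero hr.one_lt
  have h1 : u ^ m ∈ centralizer C0 := by
    refine hmin _ (pow_mem hu m) ?_
    rw [orderOf_pow_of_dvd hm0.ne' (hkm ▸ dvd_mul_left m _), hkm, Nat.mul_div_cancel _ hm0]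
    exact lt_mul_of_one_lt_right (by omega) (by omega)
  have h2 : u ^ (r ^ (k + 1)) ∈ centralizer C0 := by
    refine hmin _ (pow_mem hu _) ?_
    rw [orderOf_pow_of_dvd (by omega) (hkm ▸ dvd_mul_right _ m), hkm,
      Nat.mul_div_cancel_left _ (by omega)]
    exact lt_mul_of_one_lt_left hm0 hpow
  have hco : (r ^ (k + 1)).Coprime m := ((Nat.Prime.coprime_iff_not_dvd hr).2 hm).pow_left _
  have hbez := Nat.gcd_eq_gcd_ab (r ^ (k + 1)) m
  rw [hco.gcd_eq_one] at hbez
  refine hu' ?_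
  have e : u = (u ^ (r ^ (k + 1))) ^ Nat.gcdA (r ^ (k + 1)) m * (u ^ m) ^ Nat.gcdB (r ^ (k + 1)) m := by
    rw [← zpow_natCast, ← zpow_natCast, ← zpow_mul, ← zpow_mul, ← zpow_add, ← hbez]
    simp
  rw [e]
  exact mul_mem (zpow_mem h2 _) (zpow_mem h1 _)

section
variable (hG : Cfsg.IsMinSimpleOddOrder G) (F : SectionFacts G) (hM : IsCoatom M)
include hG F hM

/-- The contradiction in the maximal subgroup over `C_G(x)`. -/
theorem no_metacyclic_centralising {x c u : G} (hx : x ∈ Cfsg.sigmaCore M) (hx1 : x ≠ 1)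
    (hxM : ¬ centralizer ({x} : Set G) ≤ M) (hcM : centralizer ({c} : Set G) ≤ M)
    (huM : centralizer ({u} : Set G) ≤ M) (hcx : Commute c x) (hux : Commute u x)
    (hcp : (orderOf c).Prime) (hup : (orderOf u).Prime) (huc : u * c * u⁻¹ ∈ zpowers c)
    (hne : ¬ Commute c u) : False := by
  obtain ⟨N, ⟨hN, hxN⟩, -, hNF, -, -, hcompl, -⟩ := F.s1375 M hM x hx hx1 hxM
  have hS1 : Cfsg.sigmaCore N ≠ ⊥ := hNF ▸ (F.s1355 N hN).1
  haveI : Nontrivial (Cfsg.sigmaCore N) := (nontrivial_iff_ne_bot _).2 hS1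
  haveI : Group.IsNilpotent (Cfsg.sigmaCore N) := hNF ▸ TypeP.core_nilpotent N
  set Z := (center (Cfsg.sigmaCore N)).map (Cfsg.sigmaCore N).subtype with hZ
  haveI : IsMulCommutative Z := by
    refine PGroups.isMulCommutative_of_comm ?_
    rintro _ ⟨a, ha, rfl⟩ _ ⟨b, -, rfl⟩
    simp only [subtype_apply]
    exact (congrArg Subtype.val (mem_center_iff.1 ha b)).symm
  have hZN : N ≤ normalizer (Z : Set G) := by
    intro m hm
    refine Coprime.mem_normalizer_of_map_conj (le_antisymm ?_ ?_)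
    all_goals
      intro y hy
    · obtain ⟨_, ⟨a, ha, rfl⟩, rfl⟩ := hy
      have ha' : m * (a : G) * m⁻¹ ∈ Cfsg.sigmaCore N :=
        Coprime.conj_mem (le_normalizer_sigmaCore N hm) a.2
      refine ⟨⟨_, ha'⟩, ?_, by simp⟩
      rw [SetLike.mem_coe, mem_center_iff]
      intro b
      apply Subtype.ext
      have hb' : m⁻¹ * (b : G) * m ∈ Cfsg.sigmaCore N := by
        have := Coprime.conj_mem (inv_mem (le_normalizer_sigmaCore N hm)) b.2
        rwa [inv_inv] at this
      have h2 : (m⁻¹ * (b : G) * m) * a = a * (m⁻¹ * (b : G) * m) :=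
        congrArg Subtype.val (mem_center_iff.1 ha ⟨_, hb'⟩)
      show (b : G) * (m * (a : G) * m⁻¹) = (m * (a : G) * m⁻¹) * b
      calc (b : G) * (m * (a : G) * m⁻¹) = m * ((m⁻¹ * (b : G) * m) * a) * m⁻¹ := by group
        _ = m * (a * (m⁻¹ * (b : G) * m)) * m⁻¹ := by rw [h2]
        _ = _ := by group
    · obtain ⟨a, ha, rfl⟩ := hy
      have hb : m⁻¹ * (a : G) * m ∈ Cfsg.sigmaCore N := by
        have := Coprime.conj_mem (inv_mem (le_normalizer_sigmaCore N hm)) a.2
        rwa [inv_inv] at this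
      refine ⟨m⁻¹ * (a : G) * m, ⟨⟨_, hb⟩, ?_, rfl⟩, by simp [mul_assoc]⟩
      rw [SetLike.mem_coe, mem_center_iff]
      intro b
      apply Subtype.ext
      have hb' : m * (b : G) * m⁻¹ ∈ Cfsg.sigmaCore N :=
        Coprime.conj_mem (le_normalizer_sigmaCore N hm) b.2
      have h2 : (m * (b : G) * m⁻¹) * a = a * (m * (b : G) * m⁻¹) :=
        congrArg Subtype.val (mem_center_iff.1 ha ⟨_, hb'⟩)
      show (b : G) * (m⁻¹ * (a : G) * m) = (m⁻¹ * (a : G) * m) * b
      calc (b : G) * (m⁻¹ * (a : G) * m) = m⁻¹ * ((m * (b : G) * m⁻¹) * a) * m := by group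
        _ = m⁻¹ * (a * (m * (b : G) * m⁻¹)) * m := by rw [h2]
        _ = _ := by group
  have hZ1 : Z ≠ ⊥ := fun e => Group.IsNilpotent.center_ne_bot (Cfsg.sigmaCore N)
    ((map_eq_bot_iff_of_injective _ (Cfsg.sigmaCore N).subtype_injective).1 e)
  have hfix : ∀ y : G, centralizer ({y} : Set G) ≤ M → ∀ v ∈ Z, y * v = v * y → v = 1 := by
    intro y hy v hv hcomm
    have hvN : v ∈ Cfsg.sigmaCore N := map_subtype_le _ hv
    have : v ∈ (M ⊓ N) ⊓ Cfsg.sigmaCore N :=
      ⟨⟨hy (mem_centralizer_singleton_iff.2 hcomm.symm), sigmaCore_le N hvN⟩, hvN⟩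
    rwa [hcompl.2.2.1, mem_bot] at this
  exact hZ1 (eq_bot_of_fpf_metacyclic (hZN (hxN (mem_centralizer_singleton_iff.2 hcx.eq)))
    (hZN (hxN (mem_centralizer_singleton_iff.2 hux.eq))) hcp hup huc hne (hfix c hcM) (hfix u huM))

end

end Cfsg.Agent.OddOrder.BG16

namespace Cfsg.Agent.OddOrder.BG16

open Subgroup
open scoped commutatorElement

variable {G : Type*} [Group G] [Finite G] {M : Subgroup G}

theorem isCyclic_map_subtype {N : Subgroup G} {A : Subgroup N} (h : IsCyclic A) :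
    IsCyclic ↥(A.map N.subtype) := by
  haveI := h
  exact isCyclic_of_surjective _ (A.equivMapOfInjective N.subtype N.subtype_injective).surjective

/-- An element of `S ⊔ Y` of order coprime to `|S|` lies in `Y`. -/
theorem mem_right_of_coprime {S Y : Subgroup G} (hYn : Y ≤ normalizer (S : Set G))
    (hSn : S ≤ normalizer (Y : Set G)) (hd : S ⊓ Y = ⊥) {x : G} (hx : x ∈ S ⊔ Y)
    (hc : (orderOf x).Coprime (Nat.card S)) : x ∈ Y := by
  refine mem_of_coprime_relIndex le_sup_right (sup_le hSn le_normalizer) hx ?_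
  have e := relIndex_mul_relIndex ⊥ Y (S ⊔ Y) bot_le le_sup_right
  rw [relIndex_bot_left, relIndex_bot_left, Coprime.card_sup hYn hd, mul_comm (Nat.card S)] at e
  rwa [Nat.eq_of_mul_eq_mul_left Nat.card_pos e]

/-- In the exceptional case of Type I, `O_{p'}(M)` is cyclic. -/
theorem isCyclic_pPrimeCore (hG : Cfsg.IsMinSimpleOddOrder G) (F : SectionFacts G) (hM : IsCoatom M)
    {K U : Subgroup G} (hd : Cfsg.IsSigmaDecomposition M K U) (hK : K = ⊥) {g : G} (hg : g ∉ M)
    {p : ℕ} (hp : p.Prime) (hpσ : p ∈ Cfsg.sigma M)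
    (hX : Nat.card ↥(Cfsg.fittingOf M ⊓ (Cfsg.fittingOf M).map (MulAut.conj g).toMonoidHom) = p)
    (hXH : Cfsg.fittingOf M ⊓ (Cfsg.fittingOf M).map (MulAut.conj g).toMonoidHom ≤
      Cfsg.fittingHallOf M)
    (hM' : ⁅M, M⁆ = Cfsg.fittingOf M)
    (hFY : Cfsg.fittingOf M =
      Cfsg.sigmaCore M ⊔ Cfsg.piCoreOf {q | q.Prime ∧ q ∉ Cfsg.sigma M} (Cfsg.fittingOf M))
    (hcyc : IsCyclic (Cfsg.pPrimeCore p ↥(Cfsg.fittingHallOf M))) :
    IsCyclic (Cfsg.pPrimeCore p M) := by
  classical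
  haveI : Fact p.Prime := ⟨hp⟩
  have hU : U ≠ ⊥ := U_ne_bot_of_K_eq_bot hd F hM hK
  have hFS := core_eq_sigma hd F hM hU
  have hκ : Cfsg.kappa M = ∅ := (K_eq_bot_iff hd).1 hK
  rw [hFS] at hcyc hXH
  set S := Cfsg.sigmaCore M with hS
  set Y := Cfsg.piCoreOf {q | q.Prime ∧ q ∉ Cfsg.sigma M} (Cfsg.fittingOf M) with hY
  have hSM : S ≤ M := sigmaCore_le M
  have hSn : M ≤ normalizer (S : Set G) := le_normalizer_sigmaCore M
  have hSσ := sigmaCore_isPiNumber (M := M)
  have hSnil : Group.IsNilpotent S := hFS ▸ TypeP.core_nilpotent M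
  have hYM : Y ≤ M := (piCoreOf_le _ _).trans (fittingOf_le M)
  have hYn : M ≤ normalizer (Y : Set G) := le_normalizer_piCoreOf_fitting _ M
  have hYπ : Cores.IsPiNumber {q | q.Prime ∧ q ∉ Cfsg.sigma M} (Nat.card Y) :=
    piCoreOf_isPiNumber _ _
  have hSY : (Nat.card S).Coprime (Nat.card Y) :=
    hSσ.coprime hYπ fun q _ h h' => h'.2 h
  have hYcyc : IsCyclic Y := (F.s1439 M hM).1
  set W := (Cfsg.pPrimeCore p M).map M.subtype with hW
  have hWM : W ≤ M := map_subtype_le _
  have hWn : M ≤ normalizer (W : Set G) := by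
    refine (le_normalizer_map M.subtype).trans' ?_
    rw [normalizer_eq_top, ← MonoidHom.range_eq_map, range_subtype]
  have hWp : (Nat.card W).Coprime p := by
    rw [hW, Cores.card_map_eq _ M.subtype_injective]
    exact Cores.coprime_card_pPrimeCore
  have leW : ∀ N : Subgroup G, N ≤ M → M ≤ normalizer (N : Set G) → (Nat.card N).Coprime p →
      N ≤ W := by
    intro N hNM hNn hNp
    have := (normal_subgroupOf_iff_le_normalizer hNM).2 hNn
    rw [hW, ← map_subgroupOf_eq_of_le hNM]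
    exact map_mono (Cores.le_pPrimeCore (by rwa [Nat.card_congr (subgroupOfEquivOfLe hNM).toEquiv]))
  -- the two parts of S
  set C0 := (Cfsg.pPrimeCore p ↥S).map S.subtype with hC0
  set P0 := (Cfsg.pCore p ↥S).map S.subtype with hP0
  have hC0S : C0 ≤ S := map_subtype_le _
  have hP0S : P0 ≤ S := map_subtype_le _
  have hC0n : M ≤ normalizer (C0 : Set G) := by
    intro m hm
    refine Coprime.mem_normalizer_of_map_conj ?_
    have := piCoreOf_map (MulAut.conj m) {q | ¬ q ∣ p} S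
    rw [Coprime.map_conj_eq (hSn hm)] at this
    rw [hC0, Cores.pPrimeCore_eq_piCore]
    exact this
  have hP0n : M ≤ normalizer (P0 : Set G) := by
    intro m hm
    refine Coprime.mem_normalizer_of_map_conj ?_
    have := piCoreOf_map (MulAut.conj m) {p} S
    rw [Coprime.map_conj_eq (hSn hm)] at this
    rw [hP0, ← Cores.piCore_singleton hp]
    exact this
  have hC0p : (Nat.card C0).Coprime p := by
    rw [hC0, Cores.card_map_eq _ S.subtype_injective]
    exact Cores.coprime_card_pPrimeCore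
  have hP0p : ∃ k, Nat.card P0 = p ^ k := by
    rw [hP0, Cores.card_map_eq _ S.subtype_injective]
    exact IsPGroup.iff_card.1 Cores.pCore_isPGroup
  obtain ⟨kp, hkp⟩ := hP0p
  have hC0cyc : IsCyclic C0 := isCyclic_map_subtype hcyc
  have hC0W : C0 ≤ W := leW C0 (hC0S.trans hSM) hC0n hC0p
  have hWS : W ⊓ S ≤ C0 := by
    rw [hC0, ← map_subgroupOf_eq_of_le (inf_le_right : W ⊓ S ≤ S)]
    refine map_mono ?_
    have : ((W ⊓ S).subgroupOf S).Normal := (normal_subgroupOf_iff_le_normalizer inf_le_right).2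
      (fun s hs => ?_)
    · refine Cores.le_pPrimeCore ?_
      rw [Nat.card_congr (subgroupOfEquivOfLe (inf_le_right : W ⊓ S ≤ S)).toEquiv]
      exact hWp.coprime_dvd_left (card_dvd_of_le inf_le_left)
    · exact Subgroup.inf_normalizer_le_normalizer_inf ⟨hWn (hSM hs), le_normalizer hs⟩
  have hWP0 : ∀ w ∈ W, ∀ a ∈ P0, Commute w a := fun w hw a ha =>
    commute_of_normal_coprime hWM (hP0S.trans hSM) hWn hP0n (hkp ▸ hWp.pow_right kp) hw ha
  have hPC : ∀ a ∈ P0, ∀ c ∈ C0, Commute a c := fun a ha c hc =>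
    (hWP0 c (hC0W hc) a ha).symm
  have hsup : S ≤ P0 ⊔ C0 := by
    have htop : Cfsg.fittingSubgroup S = ⊤ := Components.fitting_eq_top_iff.2 hSnil
    rw [Cores.iSup_pCore_eq_fittingSubgroup] at htop
    conv_lhs => rw [← range_subtype S, MonoidHom.range_eq_map, ← htop, Subgroup.map_iSup]
    refine iSup_le fun q => ?_
    rcases eq_or_ne (q : ℕ) p with e | e
    · rw [e]
      exact le_sup_left
    · refine le_sup_of_le_right (map_mono (Cores.le_pPrimeCore ?_))
      haveI : Fact (q : ℕ).Prime := ⟨q.2⟩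
      obtain ⟨k, hk⟩ := IsPGroup.iff_card.1 (Cores.pCore_isPGroup (p := (q : ℕ)) (G := S))
      rw [hk]
      exact ((Nat.coprime_primes q.2 hp).2 e).pow_left k
  have hcentS : ∀ y : G, (∀ a ∈ P0, Commute y a) → (∀ a ∈ C0, Commute y a) →
      y ∈ centralizer (S : Set G) := by
    intro y h1 h2
    rw [mem_centralizer_iff]
    intro s hs
    have : s ∈ centralizer ({y} : Set G) := by
      refine (sup_le ?_ ?_ : P0 ⊔ C0 ≤ centralizer ({y} : Set G)) (hsup hs)
      · exact fun a ha => mem_centralizer_singleton_iff.2 (h1 a ha).symm.eq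
      · exact fun a ha => mem_centralizer_singleton_iff.2 (h2 a ha).symm.eq
    exact mem_centralizer_singleton_iff.1 this
  have hCF : M ⊓ centralizer (S : Set G) ≤ Cfsg.fittingOf M := by
    rw [(F.s1356 M hM).2.1, hFS]
    exact le_sup_left
  have hYW : Y ≤ W := leW Y hYM hYn
    ((hp.coprime_iff_not_dvd.2 fun h => (hYπ p hp h).2 hpσ).symm)
  have hSYcomm : ∀ s ∈ S, ∀ y ∈ Y, Commute s y := fun s hs y hy =>
    commute_of_normal_coprime hSM hYM hSn hYn hSY hs hy
  have hmemY : ∀ y ∈ Cfsg.fittingOf M, (orderOf y).Coprime (Nat.card S) → y ∈ Y :=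
    fun y hy hc => mem_right_of_coprime (hYM.trans hSn) (hSM.trans hYn) (Coprime.inf_eq_bot hSY)
      (hFY ▸ hy) hc
  -- W centralises C0
  by_cases hWC : ∀ w ∈ W, w ∈ centralizer (C0 : Set G)
  · have hWle : W = C0 ⊔ Y := by
      refine le_antisymm (fun w hw => ?_) (sup_le hC0W hYW)
      have hwS : w ∈ centralizer (S : Set G) := hcentS w (hWP0 w hw)
        fun a ha => (mem_centralizer_iff.1 (hWC w hw) a ha).symm
      have hwF : w ∈ S ⊔ Y := hFY ▸ hCF ⟨hWM hw, hwS⟩
      obtain ⟨s, hs, y, hy, e⟩ := (Coprime.mem_sup_iff (hYM.trans hSn)).1 hwF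
      refine e ▸ mul_mem_sup (hWS ⟨?_, hs⟩) hy
      rw [show s = w * y⁻¹ by rw [← e]; group]
      exact W.mul_mem hw (W.inv_mem (hYW hy))
    haveI : IsCyclic ↥(C0 ⊔ Y) := isCyclic_sup_of_coprime hC0cyc hYcyc
      (fun a ha b hb => hSYcomm a (hC0S ha) b hb) (hSY.coprime_dvd_left (card_dvd_of_le hC0S))
    exact isCyclic_of_surjective _
      (((Cfsg.pPrimeCore p M).equivMapOfInjective M.subtype M.subtype_injective).trans
        (MulEquiv.subgroupCongr hWle)).symm.surjective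
  exfalso
  push Not at hWC
  obtain ⟨u, huW, huC, humin, r, k, hr, hok⟩ := exists_minimal_noncentral hWC
  haveI : Fact r.Prime := ⟨hr⟩
  have hC0comm : ∀ a ∈ C0, ∀ b ∈ C0, Commute a b := fun a ha b hb => comm_of_isCyclic hC0cyc ha hb
  have hrσ : r ∉ Cfsg.sigma M := by
    intro h
    refine huC (mem_centralizer_iff.2 fun c hc => (hC0comm c hc u (hWS ⟨huW, ?_⟩)).eq)
    refine mem_of_coprime_relIndex hSM hSn (hWM huW) ?_
    rw [hok]
    exact ((Nat.Prime.coprime_iff_not_dvd hr).2 ((F.s1350 M hM).1.2.2 r hr h)).pow_left _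
  have hrS : r.Coprime (Nat.card S) :=
    (Nat.Prime.coprime_iff_not_dvd hr).2 fun h => hrσ (hSσ r hr h)
  have hu_pow : ∀ y : G, (∃ j, orderOf y ∣ r ^ j) → (orderOf y).Coprime (Nat.card S) :=
    fun y ⟨j, hj⟩ => (hrS.pow_left j).coprime_dvd_left hj
  -- minimality forces order r
  have hk0 : k = 0 := by
    by_contra hk
    set u0 := u ^ r ^ k with hu0
    have ho0 : orderOf u0 = r := by
      rw [hu0, orderOf_pow_of_dvd (pow_ne_zero _ hr.ne_zero) (hok ▸ pow_dvd_pow r (Nat.le_succ k)),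
        hok, Nat.pow_div (Nat.le_succ k) hr.pos, Nat.succ_sub le_rfl, Nat.sub_self, pow_one]
    have hlt : orderOf u0 < orderOf u := by
      rw [ho0, hok]
      calc r = r ^ 1 := (pow_one r).symm
        _ < r ^ (k + 1) := Nat.pow_lt_pow_right hr.one_lt (by omega)
    have hu0W : u0 ∈ W := pow_mem huW _
    have hu0S : u0 ∈ centralizer (S : Set G) := hcentS u0 (hWP0 u0 hu0W)
      fun a ha => (mem_centralizer_iff.1 (humin u0 hu0W hlt) a ha).symm
    have hu0F : u0 ∈ Cfsg.fittingOf M := hCF ⟨hWM hu0W, hu0S⟩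
    have hu0Y : u0 ∈ Y := hmemY u0 hu0F (hu_pow u0 ⟨1, by rw [ho0, pow_one]⟩)
    -- an abelian Sylow subgroup containing u
    have hzp : IsPGroup r (zpowers (⟨u, hWM huW⟩ : M)) :=
      IsPGroup.of_card (n := k + 1) (by rw [Nat.card_zpowers, orderOf_mk, hok])
    obtain ⟨R, hR⟩ := hzp.exists_le_sylow
    have hRcomm : IsMulCommutative (R : Subgroup M) := by
      obtain ⟨P⟩ : Nonempty (Sylow r U) := inferInstance
      have hPc := (F.s1358 M hM K U hd r hr P).1
      set P1 := (P : Subgroup U).map U.subtype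
      have hP1M : P1 ≤ M := (map_subtype_le _).trans (dU_le hd)
      have hcard : Nat.card ↥(P1.subgroupOf M) = r ^ (Nat.card M).factorization r := by
        rw [Nat.card_congr (subgroupOfEquivOfLe hP1M).toEquiv,
          Cores.card_map_eq _ U.subtype_injective, P.card_eq_multiplicity, card_M hd, hK, card_bot,
          one_mul, Nat.factorization_mul Nat.card_pos.ne' Nat.card_pos.ne', Finsupp.add_apply,
          Nat.factorization_eq_zero_of_not_dvd ((Nat.Prime.coprime_iff_not_dvd hr).1 hrS), zero_add]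
      let e : (R : Subgroup M) ≃* (P : Subgroup U) :=
        ((R.equiv (Sylow.ofCard _ hcard)).trans (MulEquiv.subgroupCongr (Sylow.coe_ofCard _ _))).trans
          ((subgroupOfEquivOfLe hP1M).trans
            ((P : Subgroup U).equivMapOfInjective U.subtype U.subtype_injective).symm)
      exact ⟨⟨fun a b => e.injective (by rw [map_mul, map_mul]; exact hPc.is_comm.comm _ _)⟩⟩
    set R0 := (R : Subgroup M).map M.subtype with hR0
    have hR0M : R0 ≤ M := map_subtype_le _
    have hR0comm : ∀ a ∈ R0, ∀ b ∈ R0, Commute a b := by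
      rintro _ ⟨a, ha, rfl⟩ _ ⟨b, hb, rfl⟩
      exact congrArg (fun z : (R : Subgroup M) => ((z : M) : G))
        (hRcomm.is_comm.comm ⟨a, ha⟩ ⟨b, hb⟩)
    have huR : u ∈ R0 := ⟨_, hR (mem_zpowers _), rfl⟩
    have hu0R : u0 ∈ R0 := pow_mem huR _
    -- u0 is not central in M
    have hnc : ∃ m ∈ M, ¬ Commute m u0 := by
      by_contra hc
      push Not at hc
      have h1 : (⟨u0, hWM hu0W⟩ : M) = 1 := by
        refine eq_one_of_central_of_mem_commutator R ?_ ?_ ?_
        · obtain ⟨a, ha, e⟩ := hu0R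
          exact (Subtype.ext e : a = ⟨u0, _⟩) ▸ ha
        · exact mem_center_iff.2 fun m => Subtype.ext (hc m m.2)
        · have h2 : u0 ∈ (commutator M).map M.subtype := by
            rw [map_subtype_commutator, hM']
            exact hu0F
          obtain ⟨a, ha, e⟩ := h2
          exact (Subtype.ext e : a = ⟨u0, _⟩) ▸ ha
      have := congrArg Subtype.val h1
      rw [show u0 = 1 from this, orderOf_one] at ho0
      exact hr.ne_one ho0.symm
    obtain ⟨m, hmM, hmne⟩ := hnc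
    -- Frattini
    set L := Cfsg.fittingOf M ⊔ R0 with hL
    have hLM : L ≤ M := sup_le (fittingOf_le M) hR0M
    haveI hLn : (L.subgroupOf M).Normal := by
      refine ⟨fun x hx y => ?_⟩
      rw [mem_subgroupOf] at hx ⊢
      rw [show ((y * x * y⁻¹ : M) : G) = ⁅(y : G), (x : G)⁆ * x by
        simp [commutatorElement_def]]
      exact mul_mem (mem_sup_left (hM'.le (commutator_mem_commutator y.2 x.2))) hx
    have hRL : (R : Subgroup M) ≤ L.subgroupOf M := fun x hx => mem_sup_right ⟨x, hx, rfl⟩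
    have hLcent : L ≤ centralizer ({u0} : Set G) := by
      refine sup_le ?_ fun a ha => mem_centralizer_singleton_iff.2 (hR0comm a ha u0 hu0R).eq
      rw [hFY]
      refine sup_le (fun a ha => ?_)
        (fun a ha => mem_centralizer_singleton_iff.2 (comm_of_isCyclic hYcyc ha hu0Y).eq)
      exact mem_centralizer_singleton_iff.2 (mem_centralizer_iff.1 hu0S a ha)
    have htop := Sylow.normalizer_sup_eq_top' R hRL
    obtain ⟨n, hn, l, hl, he⟩ := mem_sup_of_normal_right.1
      (htop ▸ mem_top (⟨m, hmM⟩ : M))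
    have hnne : ¬ Commute (n : G) u0 := by
      intro h
      refine hmne ?_
      have e : (n : G) * (l : G) = m := congrArg Subtype.val he
      rw [← e]
      exact h.mul_left (mem_centralizer_singleton_iff.1 (hLcent hl))
    have hnM : (n : G) ∈ M := n.2
    have hnR : ∀ a ∈ R0, (n : G) * a * (n : G)⁻¹ ∈ R0 := by
      rintro _ ⟨a, ha, rfl⟩
      exact ⟨n * a * n⁻¹, Coprime.conj_mem hn ha, rfl⟩
    obtain ⟨mz, hmz⟩ := exists_zpow_of_cyclic hYcyc (hYn hnM)
    have hrm : IsCoprime (r : ℤ) (mz - 1) := by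
      rw [Prime.coprime_iff_not_dvd (Nat.prime_iff_prime_int.1 hr)]
      intro hd'
      refine hnne ?_
      have : u0 ^ mz = u0 := by
        have h1 : u0 ^ (mz - 1) = 1 := by
          rw [← orderOf_dvd_iff_zpow_eq_one, ho0]
          exact hd'
        rwa [zpow_sub_one, mul_inv_eq_one] at h1
      exact mul_inv_eq_iff_eq_mul.1 ((hmz u0 hu0Y).trans this)
    obtain ⟨s, t, hst⟩ := hrm
    set c := (n : G) * u * (n : G)⁻¹ * u⁻¹ with hc
    have hcR : c ∈ R0 := mul_mem (hnR u huR) (inv_mem huR)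
    have hcY : c ∈ Y := by
      refine hmemY c ?_ (hu_pow c ?_)
      · rw [← hM']
        exact commutator_mem_commutator hnM (hWM huW)
      · obtain ⟨a, ha, e⟩ := hcR
        obtain ⟨j, hj⟩ := IsPGroup.iff_orderOf.1 R.isPGroup' ⟨a, ha⟩
        exact ⟨j, by rw [← e, subtype_apply, ← hj, orderOf_mk, orderOf_coe]⟩
    have hcpow : c ^ (r ^ k) = u0 ^ (mz - 1) := by
      rw [hc, (hR0comm _ (hnR u huR) _ (inv_mem huR)).mul_pow, conj_pow, inv_pow, ← hu0,
        hmz u0 hu0Y, zpow_sub_one]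
    set y := c ^ t with hy
    have hyY : y ∈ Y := zpow_mem hcY t
    have hyR : y ∈ R0 := zpow_mem hcR t
    have hypow : y ^ (r ^ k) = u0 := by
      rw [hy, ← zpow_natCast, ← zpow_mul, mul_comm, zpow_mul, zpow_natCast, hcpow, ← zpow_mul]
      have h1 : u0 ^ ((r : ℤ) * s) = 1 := by
        rw [zpow_mul, zpow_natCast, ← ho0, pow_orderOf_eq_one, one_zpow]
      calc u0 ^ ((mz - 1) * t) = u0 ^ ((r : ℤ) * s) * u0 ^ ((mz - 1) * t) := by rw [h1, one_mul]
        _ = u0 := by rw [← zpow_add, show (r : ℤ) * s + (mz - 1) * t = 1 by linarith, zpow_one]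
    have hz : u * y⁻¹ ∈ centralizer (C0 : Set G) := by
      refine humin _ (mul_mem huW (inv_mem (hYW hyY))) ?_
      refine lt_of_le_of_lt (Nat.le_of_dvd (Nat.pos_of_ne_zero (pow_ne_zero k hr.ne_zero))
        (orderOf_dvd_of_pow_eq_one ?_)) (hok ▸ Nat.pow_lt_pow_right hr.one_lt (Nat.lt_succ_self k))
      rw [(hR0comm u huR _ (inv_mem hyR)).mul_pow, inv_pow, hypow, ← hu0, mul_inv_cancel]
    refine huC ?_
    rw [show u = u * y⁻¹ * y by group]
    exact mul_mem hz (mem_centralizer_iff.2 fun a ha => (hSYcomm a (hC0S ha) y hyY).eq)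
  have hor : orderOf u = r := by rw [hok, hk0, zero_add, pow_one]
  -- an element c of prime order not centralised
  obtain ⟨c, hc, hcp, hne⟩ : ∃ c ∈ C0, (orderOf c).Prime ∧ ¬ Commute c u := by
    by_contra hc
    push Not at hc
    haveI : IsMulCommutative C0 := PGroups.isMulCommutative_of_comm fun a ha b hb =>
      (hC0comm a ha b hb).eq
    refine huC (Coprime.le_centralizer_of_prime_order (A := zpowers u)
      (zpowers_le.2 (hC0n (hWM huW))) ?_ (fun v hv hvp a ha => ?_) (mem_zpowers u))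
    · rw [Nat.card_zpowers, hor]
      exact hrS.coprime_dvd_right (card_dvd_of_le hC0S)
    · obtain ⟨i, rfl⟩ := mem_zpowers_iff.1 ha
      exact ((hc v hv hvp).symm.zpow_left i).eq
  obtain ⟨mc, hmc⟩ := exists_zpow_of_cyclic hC0cyc (hC0n (hWM huW))
  have huc : u * c * u⁻¹ ∈ zpowers c := mem_zpowers_iff.2 ⟨mc, (hmc c hc).symm⟩
  -- the element x
  set X := Cfsg.fittingOf M ⊓ (Cfsg.fittingOf M).map (MulAut.conj g).toMonoidHom with hXdef
  obtain ⟨⟨x, hx⟩, hx1⟩ := (nontrivial_iff_exists_ne (1 : X)).1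
    ((nontrivial_iff_ne_bot _).2 (fun e => by rw [e, card_bot] at hX; exact hp.ne_one hX.symm))
  have hx1' : x ≠ 1 := fun e => hx1 (Subtype.ext e)
  have hxp : orderOf x = p := by
    have := hX ▸ Subgroup.orderOf_dvd_natCard X hx
    exact (hp.eq_one_or_self_of_dvd _ this).resolve_left (mt orderOf_eq_one_iff.1 hx1')
  have hxS : x ∈ S := hXH hx
  have hxP0 : x ∈ P0 := by
    have h1 : S = P0 ⊔ C0 := le_antisymm hsup (sup_le hP0S hC0S)
    refine mem_of_coprime_relIndex hP0S (hSM.trans hP0n) hxS ?_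
    have e := relIndex_mul_relIndex ⊥ P0 S bot_le hP0S
    have hcS : Nat.card S = Nat.card P0 * Nat.card C0 := by
      rw [h1, Coprime.card_sup ((hC0S.trans hSM).trans hP0n)
        (Coprime.inf_eq_bot (hkp ▸ hC0p.symm.pow_left kp))]
    rw [relIndex_bot_left, relIndex_bot_left, hcS] at e
    rw [Nat.eq_of_mul_eq_mul_left Nat.card_pos e, hxp]
    exact hC0p.symm
  have hxM : ¬ centralizer ({x} : Set G) ≤ M := by
    intro hcen
    obtain ⟨x', hx', hxe⟩ := hx.2
    simp only [MulEquiv.coe_toMonoidHom, MulAut.conj_apply] at hxe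
    have hx'S : x' ∈ S := by
      refine mem_of_coprime_relIndex hSM hSn (fittingOf_le M hx') ?_
      have : orderOf x' = p := by
        rw [← hxp, ← hxe, ← MulAut.conj_apply, MulEquiv.orderOf_eq]
      rw [this]
      exact (Nat.Prime.coprime_iff_not_dvd hp).2 ((F.s1350 M hM).1.2.2 p hp hpσ)
    obtain ⟨n, hn, hne'⟩ := (F.s1438 M hM S le_rfl
      (fun e => (F.s1355 M hM).1 (hFS.trans e))
      (by rw [relIndex_self]; exact Nat.coprime_one_right _)).2 x' hx'S g (hxe ▸ hxS)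
    have h2 : n * g⁻¹ ∈ centralizer ({x} : Set G) := by
      refine mem_centralizer_singleton_iff.2 ?_
      rw [← hxe]
      calc n * g⁻¹ * (g * x' * g⁻¹) = (n * x' * n⁻¹) * (n * g⁻¹) := by group
        _ = (g * x' * g⁻¹) * (n * g⁻¹) := by rw [hne']
    refine hg ?_
    rw [show g = (n * g⁻¹)⁻¹ * n by group]
    exact mul_mem (inv_mem (hcen h2)) hn.1
  have huM : centralizer ({u} : Set G) ≤ M := by
    have hu1 : u ≠ 1 := fun e => hr.ne_one (by rw [← hor, e, orderOf_one])
    rcases F.s1432 M hM x hxS hx1' u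
      ⟨hWM huW, mem_centralizer_singleton_iff.2 (hWP0 u huW x hxP0).eq⟩ hu1
      (fun q hq hqd => by
        rw [hor] at hqd
        exact (Nat.prime_dvd_prime_iff_eq hq hr).1 hqd ▸ hrσ) with ⟨h, -⟩ | ⟨-, -, h, -⟩
    · exact (hκ ▸ h r hr (hor ▸ dvd_refl r) : r ∈ (∅ : Set ℕ)).elim
    · exact h
  have hcM : centralizer ({c} : Set G) ≤ M := by
    have hzn : M ≤ normalizer (zpowers c : Set G) := by
      intro m hm
      obtain ⟨i, hi⟩ := exists_zpow_of_cyclic hC0cyc (hC0n hm)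
      refine Coprime.mem_normalizer_of_map_conj ?_
      rw [MonoidHom.map_zpowers]
      refine eq_of_le_of_card_ge (zpowers_le.2 (mem_zpowers_iff.2 ⟨i, (hi c hc).symm⟩)) ?_
      rw [Nat.card_zpowers, Nat.card_zpowers]
      exact (MulEquiv.orderOf_eq (MulAut.conj m) c).ge
    have hN := normalizer_eq_max hG hM ((zpowers_le.2 hc).trans (hC0S.trans hSM))
      (fun e => hcp.ne_one (orderOf_eq_one_iff.2 (zpowers_eq_bot.1 e))) hzn
    rw [← hN]
    intro z hz
    refine TypeP.centralizer_le_normalizer' (mem_centralizer_iff.2 ?_)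
    intro a ha
    obtain ⟨i, rfl⟩ := mem_zpowers_iff.1 ha
    exact ((show Commute z c from mem_centralizer_singleton_iff.1 hz).symm.zpow_left i).eq
  exact no_metacyclic_centralising hG F hM hxS hx1' hxM hcM huM (hPC x hxP0 c hc).symm
    (hWP0 u huW x hxP0) hcp (hor.symm ▸ hr) huc hne

end Cfsg.Agent.OddOrder.BG16
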