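import Cfsg.Agent.OddOrder.Sigma.Basic
import Cfsg.Agent.OddOrder.BG16.SectionFacts
import Cfsg.Agent.H41.Nilpotent

/-!
# Arithmetic of the factorisation M = K U M_σ
-/

set_option autoImplicit false

namespace Cfsg.Agent.OddOrder.BG16

open Subgroup

variable {G : Type*} [Group G] [Finite G] {M K U : Subgroup G}

omit [Finite G] in
theorem isPiHallOf_eq_bot {π : Set ℕ} {H : Subgroup G} (h : Cfsg.IsPiHallOf π H M) (hπ : π = ∅) :
    H = ⊥ := by
  by_contra hne
  obtain ⟨p, hp, hd⟩ := Nat.exists_prime_and_dvd (fun e => hne (card_eq_one.1 e))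
  exact (hπ ▸ h.2.1 p hp hd : p ∈ (∅ : Set ℕ))

/-- A Hall subgroup has order coprime to its index in `M`. -/
theorem isPiHallOf_coprime {π : Set ℕ} {H : Subgroup G} (h : Cfsg.IsPiHallOf π H M) :
    (Nat.card H).Coprime (H.relIndex M) :=
  Nat.coprime_of_dvd fun p hp h1 h2 => h.2.2 p hp (h.2.1 p hp h1) h2

/-- `piCoreOf` of a nontrivial Hall index: primes of `M` outside `π` divide the relative index. -/
theorem dvd_relIndex_of_not_mem {π : Set ℕ} {H : Subgroup G} (h : Cfsg.IsPiHallOf π H M) {p : ℕ}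
    (hp : p.Prime) (hd : p ∣ Nat.card M) (hπ : p ∉ π) : p ∣ H.relIndex M := by
  have e := relIndex_mul_relIndex ⊥ H M bot_le h.1
  rw [relIndex_bot_left, relIndex_bot_left] at e
  rw [← e] at hd
  exact (hp.dvd_mul.1 hd).resolve_left fun h' => hπ (h.2.1 p hp h')

section
variable (hd : Cfsg.IsSigmaDecomposition M K U)
include hd

omit [Finite G] in
theorem dK_le : K ≤ M := hd.hall.1

omit [Finite G] in
theorem dU_le : U ≤ M := hd.compl.1

theorem dK_normalizes_sigma : K ≤ normalizer (Cfsg.sigmaCore M : Set G) :=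
  (dK_le hd).trans (le_normalizer_sigmaCore M)

theorem dU_normalizes_sigma : U ≤ normalizer (Cfsg.sigmaCore M : Set G) :=
  (dU_le hd).trans (le_normalizer_sigmaCore M)

theorem coprime_K_sigma : (Nat.card K).Coprime (Nat.card (Cfsg.sigmaCore M)) :=
  Nat.coprime_of_dvd fun p hp h1 h2 =>
    (hd.hall.2.1 p hp h1).2.2.1 (sigmaCore_isPiNumber M p hp h2)

theorem K_inf_sigma : Cfsg.sigmaCore M ⊓ K = ⊥ :=
  Coprime.inf_eq_bot (coprime_K_sigma hd).symm

omit [Finite G] in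
theorem U_inf_sigma : Cfsg.sigmaCore M ⊓ U = ⊥ :=
  le_bot_iff.1 ((inf_comm _ _).trans_le ((inf_le_inf_left U le_sup_right).trans hd.compl.2.2.1.le))

theorem card_US : Nat.card ↥(U ⊔ Cfsg.sigmaCore M) = Nat.card (Cfsg.sigmaCore M) * Nat.card U := by
  rw [sup_comm, Coprime.card_sup (dU_normalizes_sigma hd) (U_inf_sigma hd)]

theorem card_M : Nat.card M = Nat.card K * (Nat.card (Cfsg.sigmaCore M) * Nat.card U) := by
  rw [H41.IsComplIn.card_eq hd.compl, sup_comm K,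
    Coprime.card_sup (dK_normalizes_sigma hd) (K_inf_sigma hd)]
  ring

theorem relIndex_K : K.relIndex M = Nat.card (Cfsg.sigmaCore M) * Nat.card U := by
  have e := relIndex_mul_relIndex ⊥ K M bot_le hd.hall.1
  rw [relIndex_bot_left, relIndex_bot_left, card_M hd] at e
  exact Nat.eq_of_mul_eq_mul_left Nat.card_pos e

theorem coprime_K_US : (Nat.card K).Coprime (Nat.card ↥(U ⊔ Cfsg.sigmaCore M)) := by
  rw [card_US hd, ← relIndex_K hd]
  exact isPiHallOf_coprime hd.hall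

theorem K_eq_bot_iff : K = ⊥ ↔ Cfsg.kappa M = ∅ := by
  refine ⟨fun e => Set.eq_empty_of_forall_notMem fun p hp => hd.hall.2.2 p hp.1 hp ?_,
    isPiHallOf_eq_bot hd.hall⟩
  rw [e, relIndex_bot_left]
  exact hp.2.1

theorem K_ne_bot_iff : K ≠ ⊥ ↔ (Cfsg.kappa M).Nonempty := by
  rw [Ne, K_eq_bot_iff hd, Set.nonempty_iff_ne_empty]

theorem mem_M_cases {m : G} (hm : m ∈ M) :
    ∃ u ∈ U, ∃ k ∈ K, ∃ s ∈ Cfsg.sigmaCore M, m = u * k * s := by
  obtain ⟨u, hu, b, hb, rfl⟩ := hd.compl.2.2.2 m hm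
  rw [sup_comm] at hb
  obtain ⟨k, hk, s, hs, rfl⟩ : ∃ k ∈ K, ∃ s ∈ Cfsg.sigmaCore M, b = k * s := by
    obtain ⟨a, ha, c, hc, e⟩ := (Coprime.mem_sup_iff (dK_normalizes_sigma hd)).1 hb
    refine ⟨c, hc, c⁻¹ * a * c, ?_, ?_⟩
    · have := Coprime.conj_mem (inv_mem (dK_normalizes_sigma hd hc)) ha
      rwa [inv_inv] at this
    · rw [← e]; group
  exact ⟨u, hu, k, hk, s, hs, (mul_assoc _ _ _).symm⟩

variable (F : SectionFacts G) (hM : IsCoatom M)
include F hM

omit hd [Finite G] in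
theorem decomposition_exists :
    ∃ K U : Subgroup G, Cfsg.IsSigmaDecomposition M K U := by
  obtain ⟨⟨K, hK⟩, hc⟩ := F.s1351 M hM
  exact ⟨K, (F.s1352 M hM K (hc K hK) hK).1⟩

theorem coprime_sigma_rest :
    (Nat.card (Cfsg.sigmaCore M)).Coprime (Nat.card K * Nat.card U) := by
  have h := isPiHallOf_coprime (F.s1350 M hM).1
  have e := relIndex_mul_relIndex ⊥ (Cfsg.sigmaCore M) M bot_le (sigmaCore_le M)
  rw [relIndex_bot_left, relIndex_bot_left, card_M hd, mul_left_comm] at e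
  rwa [Nat.eq_of_mul_eq_mul_left Nat.card_pos e] at h

theorem U_ne_bot_of_K_eq_bot (hK : K = ⊥) : U ≠ ⊥ := by
  intro hU
  obtain ⟨-, -, h2, h3, -⟩ := F.s1355 M hM
  refine h3.not_ge fun m hm => ?_
  obtain ⟨u, hu, k, hk, s, hs, rfl⟩ := mem_M_cases hd hm
  rw [hU, mem_bot] at hu
  rw [hK, mem_bot] at hk
  rw [hu, hk, one_mul, one_mul]
  exact h2 hs

theorem core_eq_sigma (hU : U ≠ ⊥) : Cfsg.fittingHallOf M = Cfsg.sigmaCore M := by
  by_contra hne
  exact hU (F.s1357 M hM K U hd hne).1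

end

end Cfsg.Agent.OddOrder.BG16
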