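import Cfsg.Agent.OddOrder.BG16.Outside

/-!
# Fusion in A₀(M)
-/

set_option autoImplicit false

namespace Cfsg.Agent.OddOrder.BG16

open Subgroup

variable {G : Type*} [Group G] [Finite G] {M : Subgroup G}

omit [Finite G] in
theorem conj_conj_eq (g h x : G) : g * (h * x * h⁻¹) * g⁻¹ = (g * h) * x * (g * h)⁻¹ := by group

/-- Elements of the two cyclic self-normalising sets that are conjugate are conjugate by an element of
`M`. -/
theorem extra_fusion {W₁ U W₂ W₁' U' W₂' : Subgroup G} (hP : Cfsg.IsTypePWith M W₁ U W₂)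
    (hP' : Cfsg.IsTypePWith M W₁' U' W₂') {m n w v g : G} (hm : m ∈ M) (hn : n ∈ M)
    (hw : w ∈ W₁ ⊔ W₂) (hw1 : w ∉ W₁) (hw2 : w ∉ W₂) (hv : v ∈ W₁' ⊔ W₂') (hv1 : v ∉ W₁')
    (hv2 : v ∉ W₂') (h : g * (m * w * m⁻¹) * g⁻¹ = n * v * n⁻¹) : g ∈ M := by
  obtain ⟨c, hc, e1, -, e2⟩ := TypeP.conj_data hP hP'
  set v₀ := c⁻¹ * v * c with hv₀
  have hv' : v₀ ∈ W₁ ⊔ W₂ := by
    rw [e1, e2, ← Subgroup.map_sup, Coprime.mem_map_conj] at hv
    exact hv
  have hv1' : v₀ ∉ W₁ := fun h' => hv1 (by rw [e1, Coprime.mem_map_conj]; exact h')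
  have hv2' : v₀ ∉ W₂ := fun h' => hv2 (by rw [e2, Coprime.mem_map_conj]; exact h')
  have hcM : c ∈ M := TypeP.derived_le M hc
  set k := (n * c)⁻¹ * (g * m) with hk
  have hkw : k * w * k⁻¹ = v₀ := by
    calc k * w * k⁻¹ = (n * c)⁻¹ * (g * (m * w * m⁻¹) * g⁻¹) * (n * c) := by rw [hk]; group
      _ = c⁻¹ * v * c := by rw [h]; group
  have hCw := centralizer_eq_of_selfNormalizing hP.selfNormalizing hw hw1 hw2
  have hCv := centralizer_eq_of_selfNormalizing hP.selfNormalizing hv' hv1' hv2'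
  set W := W₁ ⊔ W₂ with hW
  have hconj : ∀ z ∈ W, k * z * k⁻¹ ∈ W := by
    intro z hz
    rw [← hCw, mem_centralizer_singleton_iff] at hz
    rw [← hCv, mem_centralizer_singleton_iff, ← hkw]
    calc k * z * k⁻¹ * (k * w * k⁻¹) = k * (z * w) * k⁻¹ := by group
      _ = k * w * k⁻¹ * (k * z * k⁻¹) := by rw [hz]; group
  have hcop : (Nat.card W₁).Coprime (Nat.card W₂) :=
    ((TypeP.coprime_derived_W₁ hP).coprime_dvd_left
      (card_dvd_of_le ((TypeP.W₂_le_core hP).trans (TypeP.core_le_derived hP)))).symm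
  have hpow : ∀ {A : Subgroup G} {a : G}, a ∈ A → (k * a * k⁻¹) ^ Nat.card A = 1 := by
    intro A a ha
    rw [conj_pow, orderOf_dvd_iff_pow_eq_one.1 (Subgroup.orderOf_dvd_natCard A ha), mul_one,
      mul_inv_cancel]
  have h1 : W₁.map (MulAut.conj k).toMonoidHom = W₁ := by
    refine eq_of_le_of_card_ge ?_ (Coprime.card_map_conj k W₁).ge
    rintro _ ⟨a, ha, rfl⟩
    exact mem_left_of_pow_eq_one hP.selfNormalizing.2.2.2.1 hcop
      (hconj a (mem_sup_left ha)) (hpow ha)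
  have h2 : W₂.map (MulAut.conj k).toMonoidHom = W₂ := by
    refine eq_of_le_of_card_ge ?_ (Coprime.card_map_conj k W₂).ge
    rintro _ ⟨a, ha, rfl⟩
    refine mem_left_of_pow_eq_one (fun x hx y hy => (TypeP.W₂_commute hP hy hx).symm) hcop.symm
      (sup_comm W₁ W₂ ▸ hconj a (mem_sup_right ha)) (hpow ha)
  have hk1 := Coprime.mem_normalizer_of_map_conj h1
  have hk2 := Coprime.mem_normalizer_of_map_conj h2
  have hkW : k ∈ normalizer (W : Set G) :=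
    Coprime.mem_normalizer_of_map_conj (by rw [hW, Subgroup.map_sup, h1, h2])
  have hkN : k ∈ normalizer ((W : Set G) \ ((W₁ : Set G) ∪ (W₂ : Set G))) := by
    rw [mem_set_normalizer_iff]
    intro x
    simp only [Set.mem_sdiff, Set.mem_union, SetLike.mem_coe]
    rw [← mem_normalizer_iff.1 hkW x, ← mem_normalizer_iff.1 hk1 x, ← mem_normalizer_iff.1 hk2 x]
  rw [hP.selfNormalizing.2.2.2.2.2 _ le_rfl ⟨w, hw, by simp [hw1, hw2]⟩] at hkN
  have hkM : k ∈ M := sup_le (TypeP.W₁_le hP) (TypeP.W₂_le hP) hkN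
  rw [show g = n * c * k * m⁻¹ by rw [hk]; group]
  exact mul_mem (mul_mem (mul_mem hn hcM) hkM) (inv_mem hm)

section
variable (hG : Cfsg.IsMinSimpleOddOrder G) (F : SectionFacts G) (hM : IsCoatom M)
include hG F hM

omit hG [Finite G] in
theorem fusion_sigma {x : G} (hx : x ∈ Cfsg.sigmaCore M) {g : G}
    (hgx : g * x * g⁻¹ ∈ Cfsg.sigmaCore M) : ∃ m ∈ M, m * x * m⁻¹ = g * x * g⁻¹ := by
  obtain ⟨n, hn, he⟩ := (F.s1438 M hM (Cfsg.sigmaCore M) le_rfl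
    (fun e => (F.s1355 M hM).1 (le_bot_iff.1 (e ▸ (F.s1355 M hM).2.1)))
    (by rw [relIndex_self]; exact Nat.coprime_one_right _)).2 x hx g hgx
  exact ⟨n, hn.1, he⟩

/-- Elements of `A(M)` outside `M_σ` are fused by `M` only. -/
theorem fusion_outside {x : G} (hx : x ∈ setA M) (hxσ : x ∉ Cfsg.sigmaCore M) {g : G}
    (hgx : g * x * g⁻¹ ∈ setA M) : g ∈ M := by
  obtain ⟨k, p, hp, hz, hpσ⟩ := exists_pow_prime_not_sigma F hM (PF8.typeA_subset M hx) hxσ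
  have hz' : orderOf ((g * x * g⁻¹) ^ k) = p := by
    rw [conj_pow, ← MulAut.conj_apply, MulEquiv.orderOf_eq, hz]
  obtain ⟨hC, huniq⟩ := outside hG F hM hx hp hz hpσ
  obtain ⟨hC', -⟩ := outside hG F hM hgx hp hz' hpσ
  have hg' : IsCoatom (M.map (MulAut.conj g⁻¹).toMonoidHom) := isCoatom_map _ hM
  have hle : centralizer ({x ^ k} : Set G) ≤ M.map (MulAut.conj g⁻¹).toMonoidHom := by
    intro y hy
    rw [Coprime.mem_map_conj, inv_inv]
    refine hC' (mem_centralizer_singleton_iff.2 ?_)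
    rw [conj_pow]
    have h := mem_centralizer_singleton_iff.1 hy
    calc g * y * g⁻¹ * (g * x ^ k * g⁻¹) = g * (y * x ^ k) * g⁻¹ := by group
      _ = g * x ^ k * g⁻¹ * (g * y * g⁻¹) := by rw [h]; group
  exact inv_mem_iff.1 ((map_conj_max_eq_iff hG hM).1 (huniq _ hg' hle))

theorem sigma_disjoint_extra {x : G} (hx : x ∈ setA M) (hI : ¬ IsTypeI M) {g : G}
    {W₁ U W₂ : Subgroup G} (hP : Cfsg.IsTypePWith M W₁ U W₂) {m w : G} (hm : m ∈ M)
    (hw : w ∈ W₁ ⊔ W₂) (h1 : w ∉ W₁) (h2 : w ∉ W₂) : g * x * g⁻¹ ≠ m * w * m⁻¹ := by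
  intro e
  obtain ⟨p, hp, hpd, hpn⟩ := (extra_spec hP hm hw h1 h2).2
  obtain ⟨-, -, hd, -⟩ := (mem_typeA_iff hG F hM).1 hx
  refine hpn (hpd.trans ?_)
  rw [← e, ← MulAut.conj_apply, MulEquiv.orderOf_eq]
  exact Subgroup.orderOf_dvd_natCard _ (hd.resolve_left fun h => hI ((typeI_iff hG F hM).2 h))

/-- Two elements of `A₀(M)` conjugate in `G` are conjugate in `M`. -/
theorem fusion_typeA0 {x : G} (hx : x ∈ setA0 M) {g : G}
    (hgx : g * x * g⁻¹ ∈ setA0 M) : ∃ m ∈ M, m * x * m⁻¹ = g * x * g⁻¹ := by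
  by_cases hσ : x ∈ Cfsg.sigmaCore M
  · refine fusion_sigma F hM hσ (mem_sigmaCore_of F hM (PF8.typeA0_subset M hgx) fun p hp hd => ?_)
    rw [← MulAut.conj_apply, MulEquiv.orderOf_eq] at hd
    exact sigmaCore_isPiNumber M p hp (hd.trans (Subgroup.orderOf_dvd_natCard _ hσ))
  rcases hx with hx | ⟨hI, W₁, U, W₂, hP, m, hm, w, hw, h1, h2, rfl⟩
  · rcases hgx with hgx | ⟨hI, W₁, U, W₂, hP, m, hm, w, hw, h1, h2, e⟩
    · exact ⟨g, fusion_outside hG F hM hx hσ hgx, rfl⟩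
    · exact absurd e (sigma_disjoint_extra hG F hM hx hI hP hm hw h1 h2)
  · rcases hgx with hgx | ⟨-, W₁', U', W₂', hP', n, hn, v, hv, hv1, hv2, e⟩
    · refine absurd ?_ (sigma_disjoint_extra hG F hM hgx hI hP hm hw h1 h2 (g := g⁻¹))
      group
    · exact ⟨g, extra_fusion hP hP' hm hn hw h1 h2 hv hv1 hv2 e, rfl⟩

end

end Cfsg.Agent.OddOrder.BG16
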