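import Cfsg.Agent.OddOrder.BG16.Sets

/-!
# Elements of A₀(M) outside M_σ
-/

set_option autoImplicit false

namespace Cfsg.Agent.OddOrder.BG16

open Subgroup

variable {G : Type*} [Group G] [Finite G] {M : Subgroup G}

omit [Finite G] in
theorem centralizer_le_centralizer_pow (x : G) (k : ℕ) :
    centralizer ({x} : Set G) ≤ centralizer ({x ^ k} : Set G) := fun y hy =>
  mem_centralizer_singleton_iff.2
    ((show Commute y x from mem_centralizer_singleton_iff.1 hy).pow_right k)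

/-- Non-identity elements outside both factors of a self-normalising cyclic subgroup have it as
centraliser. -/
theorem centralizer_eq_of_selfNormalizing {W₁ W₂ : Subgroup G}
    (h : Cfsg.IsSelfNormalizingCyclic W₁ W₂) {w : G} (hw : w ∈ W₁ ⊔ W₂) (h1 : w ∉ W₁)
    (h2 : w ∉ W₂) : centralizer ({w} : Set G) = W₁ ⊔ W₂ := by
  refine le_antisymm ?_ fun y hy => ?_
  · rw [← h.2.2.2.2.2 {w} (Set.singleton_subset_iff.2 ⟨hw, by simp [h1, h2]⟩)
      (Set.singleton_nonempty w)]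
    intro y hy
    rw [mem_set_normalizer_iff]
    intro z
    have hc : y * w = w * y := mem_centralizer_singleton_iff.1 hy
    refine ⟨fun hz => ?_, fun hz => ?_⟩
    · rw [Set.mem_singleton_iff] at hz ⊢
      rw [hz, hc, mul_inv_cancel_right]
    · rw [Set.mem_singleton_iff] at hz ⊢
      calc z = y⁻¹ * (y * z * y⁻¹) * y := by group
        _ = y⁻¹ * w * y := by rw [hz]
        _ = y⁻¹ * (w * y) := by rw [mul_assoc]
        _ = w := by rw [← hc]; group
  · exact mem_centralizer_singleton_iff.2 (comm_of_isCyclic h.2.2.2.2.1 hy hw)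

omit [Finite G] in
/-- An element of `A ⊔ B` killed by `|A|` lies in `A`, for commuting subgroups of coprime order. -/
theorem mem_left_of_pow_eq_one {A B : Subgroup G} (hcomm : ∀ a ∈ A, ∀ b ∈ B, a * b = b * a)
    (hc : (Nat.card A).Coprime (Nat.card B)) {z : G} (hz : z ∈ A ⊔ B)
    (h1 : z ^ Nat.card A = 1) : z ∈ A := by
  have hBA : B ≤ normalizer (A : Set G) := fun b hb =>
    TypeP.centralizer_le_normalizer' (mem_centralizer_iff.2 fun a ha => hcomm a ha b hb)
  obtain ⟨a, ha, b, hb, rfl⟩ := (Coprime.mem_sup_iff hBA).1 hz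
  have hab : Commute a b := hcomm a ha b hb
  have h0 : a ^ Nat.card A = 1 :=
    orderOf_dvd_iff_pow_eq_one.1 (Subgroup.orderOf_dvd_natCard A ha)
  rw [hab.mul_pow, h0, one_mul] at h1
  have h2 : b ^ Nat.card B = 1 :=
    orderOf_dvd_iff_pow_eq_one.1 (Subgroup.orderOf_dvd_natCard B hb)
  have hb1 : b = 1 := by
    have := pow_gcd_eq_one.2 ⟨h1, h2⟩
    rwa [hc.gcd_eq_one, pow_one] at this
  rw [hb1, mul_one]
  exact ha

/-- The elements of `A₀(M)` that are not in `A(M)`. -/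
theorem extra_spec {W₁ U W₂ : Subgroup G} (hP : Cfsg.IsTypePWith M W₁ U W₂) {m w : G}
    (hm : m ∈ M) (hw : w ∈ W₁ ⊔ W₂) (h1 : w ∉ W₁) (h2 : w ∉ W₂) :
    centralizer ({m * w * m⁻¹} : Set G) ≤ M ∧
      ∃ p : ℕ, p.Prime ∧ p ∣ orderOf (m * w * m⁻¹) ∧ ¬ p ∣ Nat.card ↥⁅M, M⁆ := by
  refine ⟨?_, ?_⟩
  · intro y hy
    have hy' : m⁻¹ * y * m ∈ centralizer ({w} : Set G) := by
      rw [mem_centralizer_singleton_iff]
      have h := mem_centralizer_singleton_iff.1 hy
      calc m⁻¹ * y * m * w = m⁻¹ * (y * (m * w * m⁻¹)) * m := by group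
        _ = w * (m⁻¹ * y * m) := by rw [h]; group
    rw [centralizer_eq_of_selfNormalizing hP.selfNormalizing hw h1 h2] at hy'
    have h := sup_le (TypeP.W₁_le hP) (TypeP.W₂_le hP) hy'
    rw [show y = m * (m⁻¹ * y * m) * m⁻¹ by group]
    exact mul_mem (mul_mem hm h) (inv_mem hm)
  · rw [show orderOf (m * w * m⁻¹) = orderOf w by rw [← MulAut.conj_apply, MulEquiv.orderOf_eq]]
    have hBA : W₂ ≤ normalizer (W₁ : Set G) := fun b hb =>
      TypeP.centralizer_le_normalizer'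
        (mem_centralizer_iff.2 fun a ha => TypeP.W₂_commute hP ha hb)
    obtain ⟨a, ha, b, hb, rfl⟩ := (Coprime.mem_sup_iff hBA).1 hw
    have ha1 : a ≠ 1 := fun e => h2 (by rw [e, one_mul]; exact hb)
    have hdvd : orderOf a ∣ orderOf (a * b) := by
      refine orderOf_dvd_of_pow_eq_one ?_
      have e : a ^ orderOf (a * b) * b ^ orderOf (a * b) = 1 := by
        rw [← (show Commute a b from TypeP.W₂_commute hP ha hb).mul_pow, pow_orderOf_eq_one]
      have hmem : a ^ orderOf (a * b) ∈ W₁ ⊓ W₂ :=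
        ⟨W₁.pow_mem ha _, by rw [eq_inv_of_mul_eq_one_left e]; exact W₂.inv_mem (W₂.pow_mem hb _)⟩
      rwa [hP.selfNormalizing.2.2.1, mem_bot] at hmem
    obtain ⟨p, hp, hpd⟩ : ∃ p : ℕ, p.Prime ∧ p ∣ orderOf a :=
      Nat.exists_prime_and_dvd (fun e => ha1 (orderOf_eq_one_iff.1 e))
    exact ⟨p, hp, hpd.trans hdvd, fun h =>
      hp.ne_one (Nat.eq_one_of_dvd_coprimes (TypeP.coprime_derived_W₁ hP) h
        (hpd.trans (Subgroup.orderOf_dvd_natCard W₁ ha)))⟩

section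
variable (hG : Cfsg.IsMinSimpleOddOrder G) (F : SectionFacts G) (hM : IsCoatom M)
include F hM

/-- A σ-element of `M` lies in `M_σ`. -/
theorem mem_sigmaCore_of {x : G} (hx : x ∈ M)
    (hp : ∀ p : ℕ, p.Prime → p ∣ orderOf x → p ∈ Cfsg.sigma M) : x ∈ Cfsg.sigmaCore M :=
  mem_of_coprime_relIndex (sigmaCore_le M) (le_normalizer_sigmaCore M) hx
    (Nat.coprime_of_dvd fun p h1 h2 h3 => (F.s1350 M hM).1.2.2 p h1 (hp p h1 h2) h3)

theorem exists_pow_prime_not_sigma {x : G} (hx : x ∈ M) (hσ : x ∉ Cfsg.sigmaCore M) :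
    ∃ k p : ℕ, p.Prime ∧ orderOf (x ^ k) = p ∧ p ∉ Cfsg.sigma M := by
  by_contra h
  push Not at h
  refine hσ (mem_sigmaCore_of F hM hx fun p hp hd => ?_)
  exact h (orderOf x / p) p hp (orderOf_pow_orderOf_div (orderOf_pos x).ne' hd)

include hG

/-- An element of `A(M)` outside `M_σ`: the centraliser of a prime order power outside σ lies in `M`
only. -/
theorem outside {x : G} (hx : x ∈ setA M) {k p : ℕ} (hp : p.Prime)
    (hz : orderOf (x ^ k) = p) (hpσ : p ∉ Cfsg.sigma M) :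
    centralizer ({x ^ k} : Set G) ≤ M ∧
      ∀ L : Subgroup G, IsCoatom L → centralizer ({x ^ k} : Set G) ≤ L → L = M := by
  obtain ⟨hxM, -, hd, y, hy, hy1, hxy⟩ := (mem_typeA_iff hG F hM).1 hx
  have hz1 : x ^ k ≠ 1 := fun e => hp.ne_one (by rw [← hz, e, orderOf_one])
  have hpr : ∀ q : ℕ, q.Prime → q ∣ orderOf (x ^ k) → q = p := fun q hq hd' =>
    (Nat.prime_dvd_prime_iff_eq hq hp).1 (hz ▸ hd')
  rcases F.s1432 M hM y hy hy1 (x ^ k)
    ⟨pow_mem hxM k, mem_centralizer_singleton_iff.2 ((show Commute x y from hxy).pow_left k).eq⟩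
    hz1 (fun q hq hd' => hpr q hq hd' ▸ hpσ) with ⟨hκ, -⟩ | ⟨-, -, h⟩
  · have hpκ : p ∈ Cfsg.kappa M := hκ p hp hz.symm.dvd
    rcases hd with e | e
    · exact absurd hpκ (e ▸ Set.notMem_empty p)
    · refine absurd ?_ (kappa_not_dvd_derived F hM hpκ)
      exact hz ▸ Subgroup.orderOf_dvd_natCard _ (pow_mem e k)
  · exact h

theorem centralizer_le_of_notMem {x : G} (hx : x ∈ setA M)
    (hσ : x ∉ Cfsg.sigmaCore M) : centralizer ({x} : Set G) ≤ M := by
  obtain ⟨k, p, hp, hz, hpσ⟩ :=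
    exists_pow_prime_not_sigma F hM (PF8.typeA_subset M hx) hσ
  exact (centralizer_le_centralizer_pow x k).trans (outside hG F hM hx hp hz hpσ).1

/-- The elements of `A₀(M)` with centraliser outside `M` lie in `A₁(M)`. -/
theorem mem_typeA1_of_not_le {x : G} (hx : x ∈ setA0 M)
    (h : ¬ centralizer ({x} : Set G) ≤ M) : x ∈ Cfsg.typeA1 M := by
  rcases hx with hx | ⟨-, W₁, U, W₂, hP, m, hm, w, hw, h1, h2, rfl⟩
  · exact (mem_typeA1_iff hG F hM).2 ⟨by_contra fun hσ => h (centralizer_le_of_notMem hG F hM hx hσ),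
      fun e => PF8.one_not_mem_typeA M (e ▸ hx)⟩
  · exact absurd (extra_spec hP hm hw h1 h2).1 h

end

end Cfsg.Agent.OddOrder.BG16
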