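import Cfsg.Agent.OddOrder.BG16.TypeI

/-!
# M_s and A(M) in the language of σ; normalisers of the Sylow subgroups of M_s
-/

set_option autoImplicit false

namespace Cfsg.Agent.OddOrder.BG16

open Subgroup

variable {G : Type*} [Group G] [Finite G] {M : Subgroup G}

variable (hG : Cfsg.IsMinSimpleOddOrder G) (F : SectionFacts G) (hM : IsCoatom M)
include hG F hM

theorem typeCore_eq : Cfsg.typeCore M = Cfsg.sigmaCore M := by
  obtain ⟨K, U, hd⟩ := decomposition_exists F hM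
  obtain ⟨-, -, h34, -⟩ := classification hG F hM hd
  rw [Cfsg.typeCore]
  split
  · next h =>
    obtain ⟨hK, hU, -⟩ := h34.1 h
    rw [(F.s1365 M hM K U hd hK).1, hU, bot_sup_eq]
  · next h =>
    by_contra hne
    have hU := (F.s1357 M hM K U hd hne).1
    exact h (h34.2 ⟨fun e => U_ne_bot_of_K_eq_bot hd F hM e hU, hU, hne⟩)

theorem typeI_iff : IsTypeI M ↔ Cfsg.kappa M = ∅ := by
  obtain ⟨K, U, hd⟩ := decomposition_exists F hM
  rw [(classification hG F hM hd).1, ← K_eq_bot_iff hd]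
  exact ⟨fun h => h.1, fun h => ⟨h, U_ne_bot_of_K_eq_bot hd F hM h⟩⟩

omit hG in
theorem kappa_not_dvd_derived {p : ℕ} (hp : p ∈ Cfsg.kappa M) : ¬ p ∣ Nat.card ↥⁅M, M⁆ := by
  obtain ⟨K, U, hd⟩ := decomposition_exists F hM
  have hK : K ≠ ⊥ := (K_ne_bot_iff hd).2 ⟨p, hp⟩
  rw [(F.s1365 M hM K U hd hK).1, card_US hd, ← relIndex_K hd]
  exact hd.hall.2.2 p hp.1 hp

theorem mem_typeA_iff {a : G} :
    a ∈ setA M ↔ a ∈ M ∧ a ≠ 1 ∧ (Cfsg.kappa M = ∅ ∨ a ∈ ⁅M, M⁆) ∧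
      ∃ x ∈ Cfsg.sigmaCore M, x ≠ 1 ∧ a * x = x * a := by
  rw [setA, ← typeCore_eq hG F hM]
  split
  · next h =>
    rw [PF8.typeCore_eq_core (Or.inl h)]
    exact ⟨fun ⟨a1, a2, a3⟩ => ⟨a1, a2, Or.inl ((typeI_iff hG F hM).1 h), a3⟩,
      fun ⟨a1, a2, _, a3⟩ => ⟨a1, a2, a3⟩⟩
  · next h =>
    refine ⟨fun ⟨a1, a2, a3⟩ => ⟨TypeP.derived_le M a1, a2, Or.inr a1, a3⟩, ?_⟩
    rintro ⟨-, a2, a4, a3⟩
    exact ⟨a4.resolve_left fun e => h ((typeI_iff hG F hM).2 e), a2, a3⟩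

theorem mem_typeA1_iff {a : G} : a ∈ Cfsg.typeA1 M ↔ a ∈ Cfsg.sigmaCore M ∧ a ≠ 1 := by
  rw [Cfsg.typeA1, typeCore_eq hG F hM]
  rfl

/-- S1389. -/
theorem core_sylow_hall :
    (∀ (p : ℕ), p.Prime → ∀ (P : Sylow p ↥(Cfsg.typeCore M)),
        (P : Subgroup ↥(Cfsg.typeCore M)) ≠ ⊥ →
        normalizer ((((P : Subgroup ↥(Cfsg.typeCore M)).map (Cfsg.typeCore M).subtype : Subgroup G)) :
          Set G) ≤ M) ∧
      (Nat.card (Cfsg.fittingHallOf M)).Coprime (Cfsg.fittingHallOf M).index ∧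
      (Nat.card (Cfsg.typeCore M)).Coprime (Cfsg.typeCore M).index := by
  have hSG : (Nat.card (Cfsg.sigmaCore M)).Coprime (Cfsg.sigmaCore M).index :=
    Nat.coprime_of_dvd fun p hp h1 h2 =>
      (F.s1350 M hM).2.1.2 p hp (sigmaCore_isPiNumber M p hp h1) h2
  refine ⟨?_, ?_, ?_⟩
  · rw [typeCore_eq hG F hM]
    intro p hp P hP
    haveI : Fact p.Prime := ⟨hp⟩
    have hPM : (P : Subgroup ↥(Cfsg.sigmaCore M)).map (Cfsg.sigmaCore M).subtype ≤ M :=
      (map_subtype_le _).trans (sigmaCore_le M)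
    have hpσ : p ∈ Cfsg.sigma M := by
      obtain ⟨k, hk⟩ := IsPGroup.iff_card.1 P.isPGroup'
      have hk0 : k ≠ 0 := fun e => hP (card_eq_one.1 (by rw [hk, e, pow_zero]))
      exact sigmaCore_isPiNumber M p hp
        (((dvd_pow_self p hk0).trans hk.symm.dvd).trans (card_subgroup_dvd_card _))
    have hcard : Nat.card ↥(((P : Subgroup ↥(Cfsg.sigmaCore M)).map
        (Cfsg.sigmaCore M).subtype).subgroupOf M) = p ^ (Nat.card M).factorization p := by
      rw [Nat.card_congr (subgroupOfEquivOfLe hPM).toEquiv,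
        Cores.card_map_eq _ (Cfsg.sigmaCore M).subtype_injective, P.card_eq_multiplicity]
      have e := relIndex_mul_relIndex ⊥ (Cfsg.sigmaCore M) M bot_le (sigmaCore_le M)
      rw [relIndex_bot_left, relIndex_bot_left] at e
      have h0 : (Cfsg.sigmaCore M).relIndex M ≠ 0 := by
        intro h
        rw [h, mul_zero] at e
        exact Nat.card_pos.ne e
      rw [← e, Nat.factorization_mul Nat.card_pos.ne' h0, Finsupp.add_apply,
        Nat.factorization_eq_zero_of_not_dvd ((F.s1350 M hM).1.2.2 p hp hpσ), add_zero]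
    have := normalizer_sylow_le hpσ (Sylow.ofCard _ hcard)
    rwa [Sylow.coe_ofCard, map_subgroupOf_eq_of_le hPM] at this
  · rw [← relIndex_mul_index (TypeP.core_le M)]
    refine (fittingHallOf_coprime M).mul_right (Nat.coprime_of_dvd fun p hp h1 h2 => ?_)
    haveI : Fact p.Prime := ⟨hp⟩
    exact not_dvd_index_of_mem_sigma
      (sigmaCore_isPiNumber M p hp (h1.trans (card_dvd_of_le (F.s1355 M hM).2.1))) h2
  · rw [typeCore_eq hG F hM]
    exact hSG

end Cfsg.Agent.OddOrder.BG16
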