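import Cfsg.Agent.OddOrder.BG16.Fusion
import Cfsg.Agent.OddOrder.PF8.Dade
import Cfsg.Agent.Frobenius.Nilpotent

/-!
# Supporting subgroups in the language of types
-/

set_option autoImplicit false

namespace Cfsg.Agent.OddOrder.BG16

open Subgroup

variable {G : Type*} [Group G] [Finite G] {M : Subgroup G}

omit [Finite G] in
theorem isComplIn_symm {A B C : Subgroup G} (h : Cfsg.IsComplIn A B C) : Cfsg.IsComplIn B A C := by
  refine ⟨h.2.1, h.1, (inf_comm _ _).trans h.2.2.1, fun m hm => ?_⟩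
  obtain ⟨a, ha, b, hb, e⟩ := h.2.2.2 m⁻¹ (inv_mem hm)
  exact ⟨b⁻¹, inv_mem hb, a⁻¹, inv_mem ha, by rw [← mul_inv_rev, ← e, inv_inv]⟩

/-- A Frobenius kernel with abelian complement is the largest normal nilpotent Hall subgroup, when
that lies in the derived group. -/
theorem frobeniusKernel_eq_fittingHall {H : Type*} [Group H] [Finite H] {E : Subgroup H}
    (hE : Cfsg.IsFrobeniusComplement E) (hc : ∀ a ∈ E, ∀ b ∈ E, a * b = b * a)
    (hd : Cfsg.fittingHall H ≤ commutator H) :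
    Cfsg.frobeniusKernel E = ((Cfsg.fittingHall H : Subgroup H) : Set H) := by
  set N := Frobenius.kernel hE with hN
  have : N.Normal := Frobenius.kernel_normal hE
  rw [← Frobenius.coe_kernel hE, SetLike.coe_set_eq]
  refine le_antisymm (le_sSup ⟨inferInstance, Frobenius.kernel_isNilpotent hE, ?_⟩) (hd.trans ?_)
  · rw [Frobenius.card_kernel_subgroup hE, Frobenius.index_kernel hE]
    exact (Frobenius.coprime_card_index hE).symm
  · rw [commutator_def, commutator_le]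
    intro a _ b _
    obtain ⟨⟨n, e⟩, rfl⟩ := (Frobenius.kernel_isComplement hE).2 a
    obtain ⟨⟨n', e'⟩, rfl⟩ := (Frobenius.kernel_isComplement hE).2 b
    rw [← QuotientGroup.eq_one_iff, ← QuotientGroup.mk'_apply N, map_commutatorElement,
      commutatorElement_eq_one_iff_mul_comm]
    have hn : QuotientGroup.mk' N n = 1 := (QuotientGroup.eq_one_iff _).2 n.2
    have hn' : QuotientGroup.mk' N n' = 1 := (QuotientGroup.eq_one_iff _).2 n'.2
    simp only [map_mul, hn, hn', one_mul]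
    rw [← map_mul, ← map_mul, hc _ e.2 _ e'.2]

section
variable (hG : Cfsg.IsMinSimpleOddOrder G) (F : SectionFacts G) (hM : IsCoatom M)
include hG F hM

omit hG [Finite G] in
theorem prime_of_mem_tau2_empty {y z : G} (hy : y ∈ Cfsg.sigmaCore M) (hy1 : y ≠ 1) (hzM : z ∈ M)
    (hzy : Commute z y) {p : ℕ} (hp : p.Prime) (hz : orderOf z = p) (hκ : Cfsg.kappa M = ∅)
    (hτ : Cfsg.tau2 M = ∅) : p ∈ Cfsg.sigma M := by
  by_contra hpσ
  have hz1 : z ≠ 1 := fun e => hp.ne_one (by rw [← hz, e, orderOf_one])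
  rcases F.s1432 M hM y hy hy1 z ⟨hzM, mem_centralizer_singleton_iff.2 hzy.eq⟩ hz1
    (fun q hq hd => (Nat.prime_dvd_prime_iff_eq hq hp).1 (hz ▸ hd) ▸ hpσ) with ⟨h, -⟩ | ⟨h, -⟩
  · exact hκ.le (h p hp hz.symm.dvd)
  · exact hτ.le (h p hp hz.symm.dvd)

/-- The order of `L_F` is coprime to that of `C_M(y)`. -/
theorem coprime_core_centralizer {x : G} (hx : x ∈ Cfsg.sigmaCore M) (hx1 : x ≠ 1)
    (hxM : ¬ centralizer ({x} : Set G) ≤ M) {L : Subgroup G} (hL : IsCoatom L)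
    (hxL : centralizer ({x} : Set G) ≤ L) (hσL : Cfsg.sigmaCore L = Cfsg.fittingHallOf L)
    (hxσL : x ∉ Cfsg.sigmaCore L) {y : G} (hy : y ∈ setA0 M) :
    (Nat.card (Cfsg.fittingHallOf L)).Coprime (Nat.card ↥(M ⊓ centralizer ({y} : Set G))) := by
  refine Nat.coprime_of_dvd fun q hq h1 h2 => ?_
  have : Fact q.Prime := ⟨hq⟩
  have hqL : q ∈ Cfsg.sigma L := sigmaCore_isPiNumber L q hq (hσL ▸ h1)
  have hqM : q ∣ Nat.card M := h2.trans (card_dvd_of_le inf_le_left)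
  obtain ⟨hκ, hτ⟩ := (F.s1436 M hM x hx hx1 hxM L hL hxL).1 ⟨q, hqL, hqM⟩
  have hI := (typeI_iff hG F hM).2 hκ
  obtain ⟨hyM, hy1, -, z, hz, hz1, hyz⟩ :=
    (mem_typeA_iff hG F hM).1 (hy.resolve_right fun h => h.1 hI)
  have hyσ : y ∈ Cfsg.sigmaCore M := by
    by_contra hn
    obtain ⟨k, p, hp, hk, hpσ⟩ := exists_pow_prime_not_sigma F hM hyM hn
    exact hpσ (prime_of_mem_tau2_empty F hM hz hz1 (pow_mem hyM k)
      ((show Commute y z from hyz).pow_left k) hp hk hκ hτ)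
  obtain ⟨⟨c, hc⟩, hco⟩ := exists_prime_orderOf_dvd_card' (G := ↥(M ⊓ centralizer ({y} : Set G))) q h2
  rw [Subgroup.orderOf_mk] at hco
  have hqσM : q ∈ Cfsg.sigma M :=
    prime_of_mem_tau2_empty F hM hyσ hy1 hc.1 (mem_centralizer_singleton_iff.1 hc.2) hq hco hκ hτ
  obtain ⟨g, rfl⟩ := F.s1378.2 M L hM hL ⟨q, hqσM, hqL⟩
  refine hxσL (mem_sigmaCore_of F hL (hxL (mem_centralizer_singleton_iff.2 rfl)) fun p hp hd => ?_)
  rw [OddOrder.sigma_map]
  exact sigmaCore_isPiNumber M p hp (hd.trans (Subgroup.orderOf_dvd_natCard _ hx))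

/-- S1391. -/
theorem supporting_theorem {x : G} (hxA : x ∈ setA0 M)
    (hxM : ¬ centralizer ({x} : Set G) ≤ M) {L : Subgroup G} (hL : IsCoatom L)
    (hxL : centralizer ({x} : Set G) ≤ L) :
    Cfsg.IsComplIn (Cfsg.fittingHallOf L) (M ⊓ L) L ∧
      centralizer ({x} : Set G) ≤
        normalizer ((Cfsg.fittingHallOf L ⊓ centralizer ({x} : Set G) : Subgroup G) : Set G) ∧
      Cfsg.IsComplIn (Cfsg.fittingHallOf L ⊓ centralizer ({x} : Set G))
        (M ⊓ centralizer ({x} : Set G)) (centralizer ({x} : Set G)) ∧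
      (∀ y ∈ setA0 M, (Nat.card (Cfsg.fittingHallOf L)).Coprime
        (Nat.card ↥(M ⊓ centralizer ({y} : Set G)))) ∧
      (x ∈ setA L ∧ x ∉ Cfsg.typeA1 L) ∧
      (IsTypeI L ∨ Cfsg.IsOfTypeII L) ∧
      (Cfsg.IsOfTypeII L → ∃ E : Subgroup ↥M, Cfsg.IsFrobeniusComplement E ∧
        Cfsg.frobeniusKernel E = ((Cfsg.fittingHall ↥M : Subgroup ↥M) : Set ↥M)) := by
  obtain ⟨hx, hx1⟩ := (mem_typeA1_iff hG F hM).1 (mem_typeA1_of_not_le hG F hM hxA hxM)
  obtain ⟨N, -, huniq, hσ, hn, hc1, hc2, hdec⟩ := F.s1375 M hM x hx hx1 hxM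
  obtain rfl := huniq L hL hxL
  obtain ⟨K', U', hd⟩ := decomposition_exists F hL
  obtain ⟨hU', ⟨⟨hxL', z, hz, hz1, hxz⟩, hxUS⟩, hxσ⟩ := hdec K' U' hd
  obtain ⟨hI, hII, -, -⟩ := classification hG F hL hd
  refine ⟨hσ ▸ isComplIn_symm hc2, hσ ▸ hn, hσ ▸ isComplIn_symm hc1,
    fun y hy => coprime_core_centralizer hG F hM hx hx1 hxM hL hxL hσ hxσ hy,
    ⟨(mem_typeA_iff hG F hL).2 ⟨hxL', hx1, ?_, z, hz, hz1, hxz⟩,
      fun h => hxσ ((mem_typeA1_iff hG F hL).1 h).1⟩, ?_, fun h2 => ?_⟩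
  · rcases eq_or_ne K' ⊥ with hK | hK
    · exact Or.inl ((K_eq_bot_iff hd).1 hK)
    · exact Or.inr ((derived_eq F hL hd hK).ge hxUS)
  · rcases eq_or_ne K' ⊥ with hK | hK
    · exact Or.inl (hI.2 ⟨hK, hU'⟩)
    · exact Or.inr (hII.2 ⟨hK, hU'⟩)
  · obtain ⟨-, ⟨E, hE, hcyc⟩, -⟩ :=
      F.s1376 M hM x hx hx1 hxM L hL hxL ((K_ne_bot_iff hd).1 (hII.1 h2).1)
    refine ⟨E, hE, frobeniusKernel_eq_fittingHall hE (fun a ha b hb => comm_of_isCyclic hcyc ha hb) ?_⟩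
    rw [← map_le_map_iff_of_injective M.subtype_injective, map_subtype_commutator]
    exact (F.s1355 M hM).2.1.trans (F.s1355 M hM).2.2.1

theorem unique_maximal {x : G} (hxA : x ∈ setA0 M)
    (hxM : ¬ centralizer ({x} : Set G) ≤ M) :
    x ∈ Cfsg.typeA1 M ∧ ∃! L : Subgroup G, IsCoatom L ∧ centralizer ({x} : Set G) ≤ L := by
  have h1 := mem_typeA1_of_not_le hG F hM hxA hxM
  obtain ⟨hx, hx1⟩ := (mem_typeA1_iff hG F hM).1 h1
  obtain ⟨N, hN, huniq, -⟩ := F.s1375 M hM x hx hx1 hxM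
  exact ⟨h1, N, hN, fun L hL => huniq L hL.1 hL.2⟩

theorem tame_embedding (X : Set G) (hX : X = setA M ∨ X = setA0 M) :
    (∀ x ∈ X, ∀ g : G, g * x * g⁻¹ ∈ X → ∃ m ∈ M, m * x * m⁻¹ = g * x * g⁻¹) ∧
      (∀ x ∈ X, ¬ centralizer ({x} : Set G) ≤ M →
        x ∈ Cfsg.typeA1 M ∧ ∃! L : Subgroup G, IsCoatom L ∧ centralizer ({x} : Set G) ≤ L) ∧
      ∀ x ∈ X, ¬ centralizer ({x} : Set G) ≤ M → ∀ L : Subgroup G, IsCoatom L →
        centralizer ({x} : Set G) ≤ L →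
        Cfsg.IsComplIn (Cfsg.fittingHallOf L) (M ⊓ L) L ∧
        centralizer ({x} : Set G) ≤
          normalizer ((Cfsg.fittingHallOf L ⊓ centralizer ({x} : Set G) : Subgroup G) : Set G) ∧
        Cfsg.IsComplIn (Cfsg.fittingHallOf L ⊓ centralizer ({x} : Set G))
          (M ⊓ centralizer ({x} : Set G)) (centralizer ({x} : Set G)) ∧
        (∀ y ∈ X, (Nat.card (Cfsg.fittingHallOf L)).Coprime
          (Nat.card ↥(M ⊓ centralizer ({y} : Set G)))) ∧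
        (x ∈ setA L ∧ x ∉ Cfsg.typeA1 L) ∧
        (IsTypeI L ∨ Cfsg.IsOfTypeII L) ∧
        (Cfsg.IsOfTypeII L → ∃ E : Subgroup ↥M, Cfsg.IsFrobeniusComplement E ∧
          Cfsg.frobeniusKernel E = ((Cfsg.fittingHall ↥M : Subgroup ↥M) : Set ↥M)) := by
  have hXA : X ⊆ setA0 M := by
    rcases hX with rfl | rfl
    · exact PF8.typeA_subset_typeA0 M
    · exact le_rfl
  refine ⟨fun x hx g hgx => fusion_typeA0 hG F hM (hXA hx) (hXA hgx),
    fun x hx hxM => unique_maximal hG F hM (hXA hx) hxM, fun x hx hxM L hL hxL => ?_⟩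
  obtain ⟨a, b, c, d, e, f, g⟩ := supporting_theorem hG F hM (hXA hx) hxM hL hxL
  exact ⟨a, b, c, fun y hy => d y (hXA hy), e, f, g⟩

end

end Cfsg.Agent.OddOrder.BG16
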