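import Cfsg.Agent.OddOrder.BG16.TypesP
import Cfsg.Agent.OddOrder.BG16.CyclicCore
import Cfsg.Agent.OddOrder.BG16.Exclusive

/-!
# κ(M) empty: M is of Type I; the classification into five types
-/

set_option autoImplicit false

namespace Cfsg.Agent.OddOrder.BG16

open Subgroup

variable {G : Type*} [Group G] [Finite G] {M K U : Subgroup G}

theorem typeF_of (hG : Cfsg.IsMinSimpleOddOrder G) (F : SectionFacts G) (hM : IsCoatom M)
    (hd : Cfsg.IsSigmaDecomposition M K U) (hK : K = ⊥) : Cfsg.IsOfTypeF M := by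
  have hU := U_ne_bot_of_K_eq_bot hd F hM hK
  have hFS := core_eq_sigma hd F hM hU
  have hUM := dU_le hd
  have hSM := sigmaCore_le M
  have hH : Cfsg.fittingHall M = (Cfsg.sigmaCore M).subgroupOf M := by
    rw [fittingHall_eq_subgroupOf, hFS]
  have hcardM : Nat.card M = Nat.card (Cfsg.sigmaCore M) * Nat.card U := by
    rw [card_M hd, hK, card_bot, one_mul]
  have hcardS : Nat.card ((Cfsg.sigmaCore M).subgroupOf M) = Nat.card (Cfsg.sigmaCore M) :=
    Nat.card_congr (subgroupOfEquivOfLe hSM).toEquiv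
  have hcardU : Nat.card (U.subgroupOf M) = Nat.card U :=
    Nat.card_congr (subgroupOfEquivOfLe hUM).toEquiv
  have hcomp : IsComplement' (Cfsg.fittingHall M) (U.subgroupOf M) := by
    rw [hH]
    refine isComplement'_of_card_mul_and_disjoint ?_ ?_
    · rw [hcardS, hcardU, hcardM]
    · rw [disjoint_iff, show (Cfsg.sigmaCore M).subgroupOf M ⊓ U.subgroupOf M =
        (Cfsg.sigmaCore M ⊓ U).subgroupOf M from (comap_inf _ _ _).symm, U_inf_sigma hd,
        bot_subgroupOf]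
  set U₁ := closure ((U : Set G) ∩ Cfsg.sigmaHat M) with hU₁def
  have hU₁U : U₁ ≤ U := (closure_le U).2 fun x hx => hx.1
  have hinv : ∀ v ∈ U, ∀ x ∈ U₁, v * x * v⁻¹ ∈ U₁ := by
    intro v hv x hx
    induction hx using closure_induction with
    | mem a ha =>
      obtain ⟨haU, haM, y, hy, hy1, hay⟩ := ha
      exact subset_closure ⟨mul_mem (mul_mem hv haU) (inv_mem hv),
        mul_mem (mul_mem (hUM hv) haM) (inv_mem (hUM hv)), v * y * v⁻¹,
        Coprime.conj_mem (dU_normalizes_sigma hd hv) hy, PF8.conj_ne_one hy1, PF8.conj_commute hay⟩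
    | one => simp
    | mul a b _ _ iha ihb =>
      rw [show v * (a * b) * v⁻¹ = (v * a * v⁻¹) * (v * b * v⁻¹) by group]
      exact mul_mem iha ihb
    | inv a _ iha =>
      rw [show v * a⁻¹ * v⁻¹ = (v * a * v⁻¹)⁻¹ by group]
      exact inv_mem iha
  refine ⟨isSolvable_of_le_max hG hM le_rfl, odd_card hG M, ?_, ?_, U.subgroupOf M, ?_, hcomp,
    ⟨U₁.subgroupOf M, fun x hx => hU₁U hx, ?_, ?_, ?_⟩, ?_⟩
  · intro e
    exact (F.s1355 M hM).1 (by rw [Cfsg.fittingHallOf, e, Subgroup.map_bot])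
  · intro e
    have h1 : Nat.card (Cfsg.fittingHall M) = Nat.card M := by rw [e, Subgroup.card_top]
    rw [hH, hcardS, hcardM] at h1
    refine hU (card_eq_one.1 ?_)
    exact Nat.eq_of_mul_eq_mul_left (Nat.card_pos (α := Cfsg.sigmaCore M))
      (h1.symm.trans (mul_one _).symm)
  · intro e
    exact hU (card_eq_one.1 (hcardU ▸ by rw [e, card_bot]))
  · intro v hv
    rw [mem_normalizer_iff]
    refine fun x => ⟨fun hx => hinv v hv x hx, fun hx => ?_⟩
    have h := hinv _ (inv_mem (show (v : G) ∈ U from hv)) _ hx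
    show (x : G) ∈ U₁
    rwa [show (v : G)⁻¹ * M.subtype (v * x * v⁻¹) * ((v : G)⁻¹)⁻¹ = (x : G) by
      simp only [map_mul, map_inv, subtype_apply]; group] at h
  · have := F.s1359 M hM K U hd
    exact PGroups.isMulCommutative_of_comm fun a ha b hb =>
      Subtype.ext (PGroups.comm_of_isMulCommutative this ha hb)
  · rintro x hx hx1 a ⟨ha, hax⟩
    refine subset_closure ⟨ha, a.2, x, ?_, fun e => hx1 (Subtype.ext e),
      congrArg Subtype.val (mem_centralizer_singleton_iff.1 hax)⟩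
    rw [hH] at hx
    exact hx
  · obtain ⟨U₀, hU₀U, hexp, hfpf⟩ := F.s1360 M hM K U hd
    refine ⟨U₀.subgroupOf M, fun x hx => hU₀U hx, ?_, fun u hu hu1 x hx hc => ?_⟩
    · rw [Monoid.exponent_eq_of_mulEquiv (subgroupOfEquivOfLe (hU₀U.trans hUM)),
        Monoid.exponent_eq_of_mulEquiv (subgroupOfEquivOfLe hUM), hexp]
    · by_contra hx1
      refine hu1 (Subtype.ext (hfpf u hu ⟨u.2, x, ?_, fun e => hx1 (Subtype.ext e),
        congrArg Subtype.val hc⟩))
      rw [hH] at hx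
      exact hx

theorem typeI_of (hG : Cfsg.IsMinSimpleOddOrder G) (F : SectionFacts G) (hM : IsCoatom M)
    (hd : Cfsg.IsSigmaDecomposition M K U) (hK : K = ⊥) : IsTypeI M := by
  refine ⟨typeF_of hG F hM hd hK, ?_⟩
  by_cases hTI : Cfsg.IsTISubset (Cfsg.fittingHallOf M : Set G)
  · exact Or.inl hTI
  obtain ⟨g, hg, hX⟩ := exists_inter_fitting_ne_bot hG F hM hTI
  rcases F.s1440 M hM K U hd g hg hX with ⟨⟨hXH, -⟩, -,
    ⟨-, h⟩ | ⟨p, hp, hXp, -, -, -, hcyc, hexp⟩ | ⟨p, hp, -, -, -, -, -, -, hK0, -⟩⟩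
  · exact Or.inr (Or.inl h)
  · exact Or.inr (Or.inr ⟨hexp, p, hp, hXp ▸ card_dvd_of_le hXH, hcyc⟩)
  · exact absurd hK hK0

/-- Exactly one type occurs, as prescribed by the factorisation. -/
theorem classification (hG : Cfsg.IsMinSimpleOddOrder G) (F : SectionFacts G) (hM : IsCoatom M)
    (hd : Cfsg.IsSigmaDecomposition M K U) :
    (IsTypeI M ↔ (K = ⊥ ∧ U ≠ ⊥)) ∧ (Cfsg.IsOfTypeII M ↔ (K ≠ ⊥ ∧ U ≠ ⊥)) ∧
      ((Cfsg.IsOfTypeIII M ∨ Cfsg.IsOfTypeIV M) ↔
        (K ≠ ⊥ ∧ U = ⊥ ∧ Cfsg.fittingHallOf M ≠ Cfsg.sigmaCore M)) ∧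
      (Cfsg.IsOfTypeV M ↔ (K ≠ ⊥ ∧ U = ⊥ ∧ Cfsg.fittingHallOf M = Cfsg.sigmaCore M)) := by
  rcases eq_or_ne K ⊥ with hK | hK
  · have hI := typeI_of hG F hM hd hK
    have hP := typeI_not_typeP hI
    exact ⟨⟨fun _ => ⟨hK, U_ne_bot_of_K_eq_bot hd F hM hK⟩, fun _ => hI⟩,
      ⟨fun h => absurd (typeP_of_typeII h) hP, fun h => absurd hK h.1⟩,
      ⟨fun h => absurd (typeP_of_typeIII_IV h) hP, fun h => absurd hK h.1⟩,
      ⟨fun h => absurd (typeP_of_typeV h) hP, fun h => absurd hK h.1⟩⟩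
  rcases eq_or_ne U ⊥ with hU | hU
  · rcases eq_or_ne (Cfsg.fittingHallOf M) (Cfsg.sigmaCore M) with hF | hF
    · have hV := typeV_of hG F hM hd hK hU hF
      exact ⟨⟨fun h => absurd (typeP_of_typeV hV) (typeI_not_typeP h), fun h => absurd h.1 hK⟩,
        ⟨fun h => absurd hV (not_typeV_of_typeII h), fun h => absurd hU h.2⟩,
        ⟨fun h => absurd hV (not_typeV_of_typeIII_IV h), fun h => absurd hF h.2.2⟩,
        ⟨fun _ => ⟨hK, hU, hF⟩, fun _ => hV⟩⟩
    · have h34 := typeIII_IV_of hG F hM hd hK hU hF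
      exact ⟨⟨fun h => absurd (typeP_of_typeIII_IV h34) (typeI_not_typeP h), fun h => absurd h.1 hK⟩,
        ⟨fun h => absurd h34 (PF8.not_typeIII_IV_of_typeII h), fun h => absurd hU h.2⟩,
        ⟨fun _ => ⟨hK, hU, hF⟩, fun _ => h34⟩,
        ⟨fun h => absurd h (not_typeV_of_typeIII_IV h34), fun h => absurd h.2.2 hF⟩⟩
  · have hII := typeII_of hG F hM hd hK hU
    exact ⟨⟨fun h => absurd (typeP_of_typeII hII) (typeI_not_typeP h), fun h => absurd h.1 hK⟩,
      ⟨fun _ => ⟨hK, hU⟩, fun _ => hII⟩,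
      ⟨fun h => absurd h (PF8.not_typeIII_IV_of_typeII hII), fun h => absurd h.2.1 hU⟩,
      ⟨fun h => absurd h (not_typeV_of_typeII hII), fun h => absurd h.2.1 hU⟩⟩

end Cfsg.Agent.OddOrder.BG16
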