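import Cfsg.Agent.OddOrder.BG16.Basic
import Cfsg.Agent.OddOrder.PF8.Sets
import Cfsg.Agent.OddOrder.BG16.Decomposition
import Cfsg.Agent.Coprime.Hall
import Cfsg.Agent.PGroups.MaxAbelian

/-!
# κ(M) nonempty: M is of type P, more precisely of Type II, III, IV or V
-/

set_option autoImplicit false

namespace Cfsg.Agent.OddOrder.BG16

open Subgroup

variable {G : Type*} [Group G] [Finite G] {M K U : Subgroup G}

omit [Finite G] in
/-- A subgroup of `M'` meeting `M_F` trivially is nilpotent, as `M'/M_F` is. -/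
theorem isNilpotent_of_inf_core {D : Subgroup G} (hDM : D ≤ M) (hDd : D ≤ ⁅M, M⁆)
    (hinf : Cfsg.fittingHallOf M ⊓ D = ⊥)
    (hnil : Group.IsNilpotent ↥((commutator ↥M).map (QuotientGroup.mk' (Cfsg.fittingHall ↥M)))) :
    Group.IsNilpotent D := by
  let f : D →* (M ⧸ Cfsg.fittingHall M) :=
    (QuotientGroup.mk' (Cfsg.fittingHall M)).comp (inclusion hDM)
  have hinj : Function.Injective f := by
    rw [injective_iff_map_eq_one]
    intro d he
    have h1 : inclusion hDM d ∈ Cfsg.fittingHall M := (QuotientGroup.eq_one_iff _).1 he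
    have h2 : (d : G) ∈ Cfsg.fittingHallOf M ⊓ D := ⟨⟨_, h1, rfl⟩, d.2⟩
    rw [hinf, mem_bot] at h2
    exact Subtype.ext h2
  have hr : ∀ d : D, f d ∈ (commutator M).map (QuotientGroup.mk' (Cfsg.fittingHall M)) := by
    intro d
    refine mem_map_of_mem _ ?_
    have h1 : (d : G) ∈ (commutator M).map M.subtype := by
      rw [map_subtype_commutator]
      exact hDd d.2
    obtain ⟨y, hy, e⟩ := h1
    exact (Subtype.ext e : y = inclusion _ d) ▸ hy
  exact Group.nilpotent_of_mulEquiv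
    (MonoidHom.ofInjective (f := f.codRestrict _ hr)
      (fun a b h => hinj (congrArg Subtype.val h))).symm

section
variable (hG : Cfsg.IsMinSimpleOddOrder G) (F : SectionFacts G) (hM : IsCoatom M)
  (hd : Cfsg.IsSigmaDecomposition M K U) (hK : K ≠ ⊥)
include hG F hM hd hK

local notation "σc" => Cfsg.sigmaCore M
local notation "Kst" => Cfsg.sigmaCore M ⊓ centralizer (K : Set G)

omit hG in
theorem derived_eq : ⁅M, M⁆ = U ⊔ σc := (F.s1365 M hM K U hd hK).1

omit hG in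
theorem K_inf_derived : ⁅M, M⁆ ⊓ K = ⊥ := by
  rw [derived_eq F hM hd hK]
  exact Coprime.inf_eq_bot (coprime_K_US hd).symm

omit hG in
theorem Kst_le_derived : Kst ≤ ⁅M, M⁆ := inf_le_left.trans (F.s1355 M hM).2.2.1

omit hG in
theorem compl_derived : Cfsg.IsComplIn ⁅M, M⁆ K M := by
  refine ⟨commutator_le_self M, dK_le hd, K_inf_derived F hM hd hK, fun m hm => ?_⟩
  obtain ⟨u, hu, k, hk, s, hs, rfl⟩ := mem_M_cases hd hm
  refine ⟨u * (k * s * k⁻¹), ?_, k, hk, by group⟩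
  rw [derived_eq F hM hd hK]
  exact mul_mem_sup hu (Coprime.conj_mem (dK_normalizes_sigma hd hk) hs)

omit hG in
theorem centralizer_in_derived {x : G} (hx : x ∈ K) (hx1 : x ≠ 1) :
    ⁅M, M⁆ ⊓ centralizer ({x} : Set G) = Kst := by
  have hC := (F.s1354 M hM K hd.cyclic hd.hall).2 hK x hx hx1
  refine le_antisymm (fun y hy => ?_) (le_inf (Kst_le_derived F hM hd hK) fun y hy => ?_)
  · have hy' : y ∈ Kst ⊔ K := by
      rw [sup_comm, ← hC]
      exact ⟨commutator_le_self M hy.1, hy.2⟩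
    have hKn : K ≤ normalizer ((Kst : Subgroup G) : Set G) := fun k hk => by
      refine TypeP.centralizer_le_normalizer' (mem_centralizer_iff.2 fun z hz => ?_)
      exact (mem_centralizer_iff.1 hz.2 k hk).symm
    obtain ⟨s, hs, k, hk, e⟩ := (Coprime.mem_sup_iff hKn).1 hy'
    have hk' : k ∈ ⁅M, M⁆ ⊓ K := by
      refine ⟨?_, hk⟩
      rw [show k = s⁻¹ * (s * k) by group, e]
      exact (⁅M, M⁆).mul_mem ((⁅M, M⁆).inv_mem (Kst_le_derived F hM hd hK hs)) hy.1
    rw [K_inf_derived F hM hd hK, mem_bot] at hk'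
    rw [hk', mul_one] at e
    exact e ▸ hs
  · exact mem_centralizer_singleton_iff.2 (mem_centralizer_iff.1 hy.2 x hx).symm

omit hG in
theorem selfNormalizing : Cfsg.IsSelfNormalizingCyclic K Kst := by
  obtain ⟨Ms, ⟨hMs, h1, h2⟩, -⟩ := F.s1366 M hM K U hd hK
  obtain ⟨-, hcyc⟩ := F.s1368 M hM K U hd hK Ms hMs h1 h2
  refine ⟨hK, (F.s1364 M hM K U hd hK).2.1,
    le_bot_iff.1 ((inf_le_inf_left K inf_le_left).trans
      ((inf_comm _ _).trans_le (K_inf_sigma hd).le)),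
    fun a ha b hb => mem_centralizer_iff.1 hb.2 a ha, hcyc, fun X hX hne => ?_⟩
  obtain ⟨hTI, hN⟩ := F.s1370 M hM K U hd hK
  apply le_antisymm
  · intro g hg
    obtain ⟨x, hx⟩ := hne
    rw [← hN]
    by_contra hgN
    have h1 := hTI g hgN x (hX hx) (hX (((mem_set_normalizer_iff.1 hg) x).1 hx))
    exact (hX hx).2 (Or.inl (h1 ▸ one_mem K))
  · intro g hg
    rw [mem_set_normalizer_iff]
    have hfix : ∀ x ∈ X, g * x * g⁻¹ = x := fun x hx => by
      haveI := hcyc
      letI := IsCyclic.commGroup (α := ↥(K ⊔ Kst))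
      have := congrArg Subtype.val (mul_comm (⟨g, hg⟩ : ↥(K ⊔ Kst)) ⟨x, (hX hx).1⟩)
      simp only [coe_mul] at this
      rw [this, mul_inv_cancel_right]
    intro x
    refine ⟨fun hx => by rwa [hfix x hx], fun hx => ?_⟩
    have e := hfix _ hx
    have : g * x * g⁻¹ = x := by
      calc g * x * g⁻¹ = g⁻¹ * (g * (g * x * g⁻¹) * g⁻¹) * g := by group
        _ = g⁻¹ * (g * x * g⁻¹) * g := by rw [e]
        _ = x := by group
    rwa [this] at hx

/-- The complement of `M_F` in `M'`. -/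
theorem exists_complement :
    ∃ D : Subgroup G, Cfsg.IsComplIn (Cfsg.fittingHallOf M) D ⁅M, M⁆ ∧ Group.IsNilpotent D ∧
      K ≤ normalizer (D : Set G) ∧ (U ≠ ⊥ → D = U) ∧ (U = ⊥ → D ≠ ⊥ →
        normalizer (D : Set G) ≤ M) ∧
      (U = ⊥ → (D = ⊥ ↔ Cfsg.fittingHallOf M = σc)) := by
  obtain ⟨-, hFS, -, -, hnil⟩ := F.s1355 M hM
  by_cases hFeq : Cfsg.fittingHallOf M = σc
  · refine ⟨U, ⟨hFeq ▸ (F.s1355 M hM).2.2.1, ?_, ?_, fun m hm => ?_⟩, ?_, hd.normal, fun _ => rfl,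
      fun h h' => absurd h h', fun h => iff_of_true h hFeq⟩
    · rw [derived_eq F hM hd hK]
      exact le_sup_left
    · rw [hFeq]
      exact U_inf_sigma hd
    · rw [derived_eq F hM hd hK, sup_comm] at hm
      obtain ⟨a, ha, b, hb, e⟩ := (Coprime.mem_sup_iff (dU_normalizes_sigma hd)).1 hm
      exact ⟨a, hFeq ▸ ha, b, hb, e.symm⟩
    · have := (F.s1363 M hM K U hd hK).1
      letI : CommGroup U := { (inferInstance : Group U) with mul_comm := this.is_comm.comm }
      infer_instance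
  · have hU : U = ⊥ := (F.s1357 M hM K U hd hFeq).1
    have hder : ⁅M, M⁆ = σc := by rw [derived_eq F hM hd hK, hU, bot_sup_eq]
    have hsolv : Group.IsSolvable σc := isSolvable_of_le_max hG hM (sigmaCore_le M)
    obtain ⟨D, hD, hKD⟩ := Coprime.exists_invariant_hall (dK_normalizes_sigma hd)
      (coprime_K_sigma hd) hsolv {p | ¬ p ∣ Nat.card (Cfsg.fittingHallOf M)}
    have hcop : (Nat.card (Cfsg.fittingHallOf M)).Coprime (Nat.card D) :=
      Nat.coprime_of_dvd fun p hp h1 h2 => hD.2.1 p hp h2 h1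
    have hDn : D ≤ normalizer (Cfsg.fittingHallOf M : Set G) :=
      (hD.1.trans (sigmaCore_le M)).trans (TypeP.le_normalizer_core M)
    have hcard : Nat.card σc = Nat.card (Cfsg.fittingHallOf M) * Nat.card D := by
      have e1 := relIndex_mul_relIndex ⊥ D σc bot_le hD.1
      have e2 := relIndex_mul_relIndex ⊥ (Cfsg.fittingHallOf M) σc bot_le hFS
      rw [relIndex_bot_left, relIndex_bot_left] at e1 e2
      have hb : (Nat.card (Cfsg.fittingHallOf M)).Coprime ((Cfsg.fittingHallOf M).relIndex σc) := by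
        refine (fittingHallOf_coprime M).coprime_dvd_right ?_
        rw [← relIndex_mul_relIndex _ σc M hFS (sigmaCore_le M)]
        exact dvd_mul_right _ _
      have hdiv1 : Nat.card D ∣ (Cfsg.fittingHallOf M).relIndex σc :=
        hcop.symm.dvd_of_dvd_mul_left (e2 ▸ card_dvd_of_le hD.1)
      have hdiv2 : (Cfsg.fittingHallOf M).relIndex σc ∣ Nat.card D := by
        have hco : ((Cfsg.fittingHallOf M).relIndex σc).Coprime (D.relIndex σc) :=
          Nat.coprime_of_dvd fun p hp h1 h2 => hD.2.2 p hp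
            (fun h => hp.ne_one (Nat.eq_one_of_dvd_coprimes hb h h1)) h2
        exact hco.dvd_of_dvd_mul_right (e1.symm ▸ e2 ▸ dvd_mul_left _ _)
      rw [← e2, Nat.dvd_antisymm hdiv1 hdiv2]
    have hsup : Cfsg.fittingHallOf M ⊔ D = σc :=
      eq_of_le_of_card_ge (sup_le hFS hD.1)
        (by rw [Coprime.card_sup hDn (Coprime.inf_eq_bot hcop), hcard])
    have hDbot : D ≠ ⊥ := fun e => hFeq (by rw [← hsup, e, sup_bot_eq])
    refine ⟨D, ⟨hder ▸ hFS, hder ▸ hD.1, Coprime.inf_eq_bot hcop, fun m hm => ?_⟩, ?_, hKD,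
      fun h => absurd hU h, fun _ hD0 => ?_, fun _ => iff_of_false hDbot hFeq⟩
    · rw [hder, ← hsup] at hm
      obtain ⟨a, ha, b, hb, e⟩ := (Coprime.mem_sup_iff hDn).1 hm
      exact ⟨a, ha, b, hb, e.symm⟩
    · exact isNilpotent_of_inf_core (hD.1.trans (sigmaCore_le M)) (hder ▸ hD.1)
        (Coprime.inf_eq_bot hcop) hnil
    · -- a Sylow subgroup of `D` is a Sylow subgroup of `M`
      have hDnil : Group.IsNilpotent D := isNilpotent_of_inf_core (hD.1.trans (sigmaCore_le M))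
        (hder ▸ hD.1) (Coprime.inf_eq_bot hcop) hnil
      obtain ⟨p, hp, hpD⟩ := Nat.exists_prime_and_dvd (fun e => hD0 (card_eq_one.1 e))
      haveI : Fact p.Prime := ⟨hp⟩
      obtain ⟨P⟩ : Nonempty (Sylow p D) := inferInstance
      have hP0 : (P : Subgroup D).map D.subtype ≤ M :=
        (map_subtype_le _).trans (hD.1.trans (sigmaCore_le M))
      have hpσ : p ∈ Cfsg.sigma M :=
        sigmaCore_isPiNumber M p hp (hpD.trans (card_dvd_of_le hD.1))
      have hpF : ¬ p ∣ Nat.card (Cfsg.fittingHallOf M) := hD.2.1 p hp hpD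
      have hpK : ¬ p ∣ Nat.card K := fun h => (hd.hall.2.1 p hp h).2.2.1 hpσ
      have hcardP : Nat.card ↥(((P : Subgroup D).map D.subtype).subgroupOf M) =
          p ^ (Nat.card M).factorization p := by
        rw [Nat.card_congr (subgroupOfEquivOfLe hP0).toEquiv, Cores.card_map_eq _ D.subtype_injective,
          P.card_eq_multiplicity, card_M hd, hU, card_bot, mul_one, hcard]
        congr 1
        rw [Nat.factorization_mul Nat.card_pos.ne' (Nat.mul_ne_zero Nat.card_pos.ne' Nat.card_pos.ne'),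
          Nat.factorization_mul Nat.card_pos.ne' Nat.card_pos.ne']
        simp [Nat.factorization_eq_zero_of_not_dvd hpF, Nat.factorization_eq_zero_of_not_dvd hpK]
      refine (normalizer_le_normalizer_sylow hDnil P).trans ?_
      have := normalizer_sylow_le hpσ (Sylow.ofCard _ hcardP)
      rwa [Sylow.coe_ofCard, map_subgroupOf_eq_of_le hP0] at this

/-- Type-P data `(K, D, K*)`. -/
theorem exists_typePWith :
    ∃ D : Subgroup G, Cfsg.IsTypePWith M K D Kst ∧ (U ≠ ⊥ → D = U) ∧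
      (U = ⊥ → D ≠ ⊥ → normalizer (D : Set G) ≤ M) ∧
      (U = ⊥ → (D = ⊥ ↔ Cfsg.fittingHallOf M = σc)) := by
  obtain ⟨D, hD, hnil, hKD, h1, h2, h3⟩ := exists_complement hG F hM hd hK
  obtain ⟨hd2, hfit, hfitle⟩ := F.s1356 M hM
  obtain ⟨-, -, hKF, hncyc⟩ := F.s1364 M hM K U hd hK
  exact ⟨D, ⟨hK, hd.cyclic, by rw [relIndex_K hd, ← card_US hd]; exact coprime_K_US hd,
    compl_derived F hM hd hK, hnil, hKD, hD, hncyc, hd2.trans (hfit.trans (sup_comm _ _)).le,
    (sup_comm _ _).trans hfit.symm, hfitle ((K_ne_bot_iff hd).1 hK),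
    le_inf hKF (F.s1365 M hM K U hd hK).2, fun x hx hx1 => centralizer_in_derived F hM hd hK hx hx1,
    selfNormalizing F hM hd hK⟩, h1, h2, h3⟩

end

end Cfsg.Agent.OddOrder.BG16

namespace Cfsg.Agent.OddOrder.BG16

open Subgroup

variable {G : Type*} [Group G] [Finite G] {M K U : Subgroup G}

theorem typeIII_IV_of (hG : Cfsg.IsMinSimpleOddOrder G) (F : SectionFacts G) (hM : IsCoatom M)
    (hd : Cfsg.IsSigmaDecomposition M K U) (hK : K ≠ ⊥) (hU : U = ⊥)
    (hne : Cfsg.fittingHallOf M ≠ Cfsg.sigmaCore M) : Cfsg.IsOfTypeIII M ∨ Cfsg.IsOfTypeIV M := by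
  obtain ⟨-, hTI, hp⟩ := F.s1357 M hM K U hd hne
  obtain ⟨D, hP, -, hN, hD⟩ := exists_typePWith hG F hM hd hK
  have hD0 : D ≠ ⊥ := fun e => hne ((hD hU).1 e)
  by_cases hc : IsMulCommutative D
  · exact Or.inl ⟨K, D, _, hP, hD0, hp, hTI, hc, hN hU hD0⟩
  · exact Or.inr ⟨K, D, _, hP, hD0, hp, hTI, hc, hN hU hD0⟩

/-- `M'` is of Frobenius type when `K ≠ 1` and `U ≠ 1`. -/
theorem derived_typeF (hG : Cfsg.IsMinSimpleOddOrder G) (F : SectionFacts G) (hM : IsCoatom M)
    (hd : Cfsg.IsSigmaDecomposition M K U) (hK : K ≠ ⊥) (hU : U ≠ ⊥) :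
    Cfsg.IsOfTypeF ↥⁅M, M⁆ ∧ Cfsg.fittingHallOf ⁅M, M⁆ = Cfsg.fittingHallOf M := by
  have hFS := core_eq_sigma hd F hM hU
  have hder := derived_eq F hM hd hK
  have hFd : Cfsg.fittingHallOf M ≤ ⁅M, M⁆ := hFS ▸ (F.s1355 M hM).2.2.1
  have hFeq : Cfsg.fittingHallOf ⁅M, M⁆ = Cfsg.fittingHallOf M := by
    refine fittingHallOf_eq_of_normal (commutator_le_self M) (TypeP.le_normalizer_derived M) ?_ hFd
    rw [(H41.IsComplIn.relIndex_eq (compl_derived F hM hd hK)).2, hder]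
    exact (coprime_K_US hd).symm
  refine ⟨?_, hFeq⟩
  set N := ⁅M, M⁆ with hN
  have hH : Cfsg.fittingHall N = (Cfsg.sigmaCore M).subgroupOf N := by
    rw [fittingHall_eq_subgroupOf, hFeq, hFS]
  have hUN : U ≤ N := by rw [hder]; exact le_sup_left
  have hSN : Cfsg.sigmaCore M ≤ N := by rw [hder]; exact le_sup_right
  have hcardS : Nat.card ((Cfsg.sigmaCore M).subgroupOf N) = Nat.card (Cfsg.sigmaCore M) :=
    Nat.card_congr (subgroupOfEquivOfLe hSN).toEquiv
  have hcardU : Nat.card (U.subgroupOf N) = Nat.card U :=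
    Nat.card_congr (subgroupOfEquivOfLe hUN).toEquiv
  have hcomp : IsComplement' (Cfsg.fittingHall N) (U.subgroupOf N) := by
    rw [hH]
    refine isComplement'_of_card_mul_and_disjoint ?_ ?_
    · rw [hcardS, hcardU, ← card_US hd, hder]
    · rw [disjoint_iff]
      rw [show (Cfsg.sigmaCore M).subgroupOf N ⊓ U.subgroupOf N = (Cfsg.sigmaCore M ⊓ U).subgroupOf N
        from (comap_inf _ _ _).symm, U_inf_sigma hd, bot_subgroupOf]
  refine ⟨isSolvable_of_le_max hG hM (commutator_le_self M), odd_card hG _, ?_, ?_,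
    U.subgroupOf N, ?_, hcomp, ⟨U.subgroupOf N, le_rfl, le_normalizer, ?_, fun x _ _ => inf_le_left⟩, ?_⟩
  · intro e
    refine (F.s1355 M hM).1 ?_
    rw [← hFeq, Cfsg.fittingHallOf, e, Subgroup.map_bot]
  · intro e
    have h1 : Nat.card (Cfsg.fittingHall N) = Nat.card N := by rw [e, Subgroup.card_top]
    rw [hH, hcardS, hder, card_US hd] at h1
    refine hU (card_eq_one.1 ?_)
    exact Nat.eq_of_mul_eq_mul_left (Nat.card_pos (α := Cfsg.sigmaCore M)) (h1.symm.trans (mul_one _).symm)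
  · intro e
    exact hU (card_eq_one.1 (hcardU ▸ by rw [e, card_bot]))
  · have := (F.s1363 M hM K U hd hK).1
    exact PGroups.isMulCommutative_of_comm fun a ha b hb =>
      Subtype.ext (PGroups.comm_of_isMulCommutative this ha hb)
  · obtain ⟨U₀, hU₀U, hexp, hfpf⟩ := F.s1360 M hM K U hd
    refine ⟨U₀.subgroupOf N, fun x hx => hU₀U hx, ?_, fun u hu hu1 x hx hc => ?_⟩
    · rw [Monoid.exponent_eq_of_mulEquiv (subgroupOfEquivOfLe (hU₀U.trans hUN)),
        Monoid.exponent_eq_of_mulEquiv (subgroupOfEquivOfLe hUN), hexp]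
    · by_contra hx1
      refine hu1 (Subtype.ext (hfpf u hu ⟨commutator_le_self M u.2, x, ?_, fun e => hx1 (Subtype.ext e),
        congrArg Subtype.val hc⟩))
      rw [hH] at hx
      exact hx

theorem typeII_of (hG : Cfsg.IsMinSimpleOddOrder G) (F : SectionFacts G) (hM : IsCoatom M)
    (hd : Cfsg.IsSigmaDecomposition M K U) (hK : K ≠ ⊥) (hU : U ≠ ⊥) : Cfsg.IsOfTypeII M := by
  obtain ⟨D, hP, hDU, -, -⟩ := exists_typePWith hG F hM hd hK
  obtain ⟨hp, hTI, -⟩ := F.s1372 M hM K U hd hK hU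
  obtain ⟨hc, hN⟩ := F.s1363 M hM K U hd hK
  obtain rfl := hDU hU
  obtain ⟨hF1, hF2⟩ := derived_typeF hG F hM hd hK hU
  exact ⟨K, D, _, hP, hU, hp, hTI, hc, hN, hF1, hF2⟩

/-- If a set fails to be TI then `F(M)` meets a conjugate. -/
theorem exists_inter_fitting_ne_bot (hG : Cfsg.IsMinSimpleOddOrder G) (F : SectionFacts G)
    (hM : IsCoatom M) (h : ¬ Cfsg.IsTISubset (Cfsg.fittingHallOf M : Set G)) :
    ∃ g : G, g ∉ M ∧
      Cfsg.fittingOf M ⊓ (Cfsg.fittingOf M).map (MulAut.conj g).toMonoidHom ≠ ⊥ := by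
  simp only [Cfsg.IsTISubset] at h
  push Not at h
  obtain ⟨g, hg, x, hx, hgx, hx1⟩ := h
  refine ⟨g, fun hgM => hg (TypeP.le_normalizer_core M hgM), fun e => ?_⟩
  have hle : Cfsg.fittingHallOf M ≤ Cfsg.fittingOf M :=
    map_mono (H41.fittingHall_le_fittingSubgroup M)
  have : g * x * g⁻¹ ∈
      Cfsg.fittingOf M ⊓ (Cfsg.fittingOf M).map (MulAut.conj g).toMonoidHom :=
    ⟨hle hgx, x, hle hx, rfl⟩
  rw [e, mem_bot] at this
  exact PF8.conj_ne_one hx1 this

theorem typeV_of (hG : Cfsg.IsMinSimpleOddOrder G) (F : SectionFacts G) (hM : IsCoatom M)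
    (hd : Cfsg.IsSigmaDecomposition M K U) (hK : K ≠ ⊥) (hU : U = ⊥)
    (heq : Cfsg.fittingHallOf M = Cfsg.sigmaCore M) : Cfsg.IsOfTypeV M := by
  obtain ⟨D, hP, -, -, hD⟩ := exists_typePWith hG F hM hd hK
  have hD0 : D = ⊥ := (hD hU).2 heq
  refine ⟨K, D, _, hP, hD0, ?_⟩
  by_cases hTI : Cfsg.IsTISubset (Cfsg.fittingHallOf M : Set G)
  · exact Or.inl hTI
  obtain ⟨g, hg, hX⟩ := exists_inter_fitting_ne_bot hG F hM hTI
  have hindex : (Cfsg.fittingHall M).index = Nat.card K := by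
    rw [TypeP.index_core hP, hD0, card_bot, one_mul]
  rcases F.s1440 M hM K U hd g hg hX with ⟨⟨hXH, -⟩, -, ⟨hK0, -⟩ | ⟨p, hp, hXp, -, -, -, hcyc, hexp⟩ |
    ⟨p, hp, hXp, -, -, hcyc, hp3, -, -, -, hdvd⟩⟩
  · exact absurd hK0 hK
  · refine Or.inr (Or.inl ⟨p, hp, hXp ▸ card_dvd_of_le hXH, ?_, hcyc⟩)
    refine dvd_trans ?_ (hexp p hp (hXp ▸ card_dvd_of_le hXH))
    -- `M / M_F ≅ K` is cyclic
    let f : K →* M ⧸ Cfsg.fittingHall M :=
      (QuotientGroup.mk' (Cfsg.fittingHall M)).comp (inclusion (dK_le hd))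
    have hinj : Function.Injective f := by
      rw [injective_iff_map_eq_one]
      intro k he
      have h1 : inclusion (dK_le hd) k ∈ Cfsg.fittingHall M := (QuotientGroup.eq_one_iff _).1 he
      have h2 : (k : G) ∈ Cfsg.sigmaCore M ⊓ K := ⟨heq ▸ ⟨_, h1, rfl⟩, k.2⟩
      rw [K_inf_sigma hd, mem_bot] at h2
      exact Subtype.ext h2
    haveI := hd.cyclic
    obtain ⟨k, hk⟩ := IsCyclic.exists_generator (α := K)
    rw [← orderOf_eq_card_of_forall_mem_zpowers hk, ← orderOf_injective f hinj k]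
    exact Monoid.order_dvd_exponent _
  · refine Or.inr (Or.inr ⟨p, hp, hXp ▸ card_dvd_of_le hXH, hp3, ?_, hcyc⟩)
    have e : (Cfsg.fittingHallOf M).relIndex M = Nat.card K := by
      rw [← hindex]
      show ((Cfsg.fittingHall M).map M.subtype).relIndex M = _
      rw [Subgroup.relIndex, Subgroup.subgroupOf, comap_map_eq_self_of_injective M.subtype_injective]
    rwa [e] at hdvd

end Cfsg.Agent.OddOrder.BG16
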